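import Mathlib
import Groth.Agent.RatSing.BlowNormal
import Groth.Agent.PointBlow.Main
import Groth.Agent.RatUp.Val
import Groth.Agent.Lib.BlowUpInt
import Groth.Agent.S7302
import Groth.Agent.RatCompl.Normal

/-!
# Blowing up finitely many rational singular points of a surface model
-/

set_option autoImplicit false
set_option linter.style.haveILetI false
set_option linter.unusedSectionVars false
set_option backward.isDefEq.respectTransparency false
set_option backward.isDefEq.respectTransparency.types false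
set_option maxHeartbeats 1000000

universe u

open CategoryTheory CategoryTheory.Limits AlgebraicGeometry TopologicalSpace IsLocalRing
open Groth.Agent.H23.StalkIdeal
open Groth.Agent.PointBlow (pt)
open Groth.Agent.NormSeq (Model locRing Nice)

noncomputable section

namespace Groth.Agent.DoublePt

/-- An ideal sheaf cutting out finitely many closed points. -/
theorem exists_centre_finset {X : Scheme.{u}} (s : Finset X) (hs : ∀ z ∈ s, IsClosed ({z} : Set X)) :
    ∃ C : X.IdealSheafData, (∀ z ∈ s, sI C z = maximalIdeal (X.presheaf.stalk z)) ∧ ∀ z ∉ s, sI C z = ⊤ := by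
  classical
  induction s using Finset.induction with
  | empty => exact ⟨⊤, fun z hz => absurd hz (Finset.notMem_empty z), fun z _ => sI_top z⟩
  | @insert w s hw ih =>
    obtain ⟨C, h1, h2⟩ := ih fun z hz => hs z (Finset.mem_insert_of_mem hz)
    have hwc := hs w (Finset.mem_insert_self w s)
    have hne : ∀ z, z ≠ w → sI (pt hwc) z = ⊤ := fun z hz =>
      PointBlow.sI_eq_top fun h => hz ((PointBlow.mem_support_pt hwc z).1 h)
    refine ⟨pt hwc * C, fun z hz => ?_, fun z hz => ?_⟩
    · rw [PointBlow.sI_mul]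
      rcases Finset.mem_insert.1 hz with rfl | hz'
      · rw [NormSeq.sI_pt hwc, h2 _ hw, Ideal.mul_top]
      · rw [hne z fun h => hw (h ▸ hz'), h1 z hz', Ideal.top_mul]
    · rw [Finset.mem_insert, not_or] at hz
      rw [PointBlow.sI_mul, hne z hz.1, h2 z hz.2, Ideal.top_mul]

/-- Normality of the completion passes along isomorphisms of local rings. -/
theorem cpl_normal_of_iso {S T : CommRingCat.{u}} [IsLocalRing S] [IsLocalRing T] [IsNoetherianRing S]
    [IsNoetherianRing T] (g : S ⟶ T) [IsIso g] (h : IsDomain (Curv2.cpl S) ∧ IsIntegrallyClosed (Curv2.cpl S)) :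
    IsDomain (Curv2.cpl T) ∧ IsIntegrallyClosed (Curv2.cpl T) := by
  let e := (asIso g).commRingCatIsoToRingEquiv
  haveI : IsLocalHom g.hom := ⟨fun a ha => (isUnit_map_iff e a).1 ha⟩
  obtain ⟨e'⟩ := RatCompl.exists_cplEquiv g (RingHom.Flat.of_bijective e.bijective)
    ⟨IsLocalRing.map_ringEquiv_maximalIdeal e, fun t => ⟨e.symm t, by
      rw [show g (e.symm t) = t from e.apply_symm_apply t, sub_self]; exact zero_mem _⟩⟩
  haveI := h.1
  haveI := h.2
  exact ⟨e'.toMulEquiv.isDomain, IsIntegrallyClosed.of_equiv e'.symm⟩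

variable {R : CommRingCat.{u}} [IsDomain R] (M : Model (Spec R))

local notation "KK" => Scheme.functionField (Spec R)

/-- The affine chart of the blow-up of a local ring inside the function field. -/
def chartK (R₀ : Subring (Spec R).functionField) [IsLocalRing R₀] (a : R₀) : Subring (Spec R).functionField :=
  Subring.closure ((R₀ : Set (Spec R).functionField) ∪
    (fun t : R₀ => (t : (Spec R).functionField) / a) '' (maximalIdeal R₀ : Set R₀))

theorem mem_maximalIdeal_iff (w : M.Z) (a : M.Z.presheaf.stalk w) :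
    (⟨M.toKHom w a, a, rfl⟩ : locRing M w) ∈ maximalIdeal (locRing M w) ↔ a ∈ maximalIdeal (M.Z.presheaf.stalk w) := by
  let e : M.Z.presheaf.stalk w ≃+* locRing M w := RingEquiv.ofBijective (M.toKHom w).hom.rangeRestrict
    ⟨fun _ _ hab => M.toK_injective w (congrArg Subtype.val hab), (M.toKHom w).hom.rangeRestrict_surjective⟩
  rw [mem_maximalIdeal, mem_maximalIdeal, mem_nonunits_iff, mem_nonunits_iff]
  exact not_congr (isUnit_map_iff e a)

/-- The local rings of the blow-up over a rational point are normal and localisations of charts. -/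
theorem exists_chart (hM : Nice M.Z) {C : M.Z.IdealSheafData} {Y : Scheme.{u}} [IsIntegral Y] {b : Y ⟶ M.Z}
    (hb : BlowUp.IsBlowUp b C) (hgen : b (genericPoint Y) = genericPoint M.Z)
    (hbir : IsIso (b.stalkMap (genericPoint Y))) (y : Y) (hC : sI C (b y) = maximalIdeal (M.Z.presheaf.stalk (b y)))
    (hd : ringKrullDim (M.Z.presheaf.stalk (b y)) = 2) (hN : CAlg.IsNagata (M.Z.presheaf.stalk (b y)))
    (hA : Curv2.IsRationalSing (M.Z.presheaf.stalk (b y))) :
    IsIntegrallyClosed (Y.presheaf.stalk y) ∧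
    (IsClosed ({y} : Set Y) →
      IsDomain (Curv2.cpl (M.Z.presheaf.stalk (b y))) ∧ IsIntegrallyClosed (Curv2.cpl (M.Z.presheaf.stalk (b y))) →
      IsDomain (Curv2.cpl (Y.presheaf.stalk y)) ∧ IsIntegrallyClosed (Curv2.cpl (Y.presheaf.stalk y))) ∧
    ∃ a : locRing M (b y), a ∈ maximalIdeal (locRing M (b y)) ∧ (a : KK) ≠ 0 ∧
      (∀ t ∈ maximalIdeal (locRing M (b y)), (t : KK) / a ∈ locRing (M.comp b hgen hbir) y) ∧
      ∀ c ∈ locRing (M.comp b hgen hbir) y, ∃ p ∈ chartK (locRing M (b y)) a, ∃ q ∈ chartK (locRing M (b y)) a,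
        q ≠ 0 ∧ c * q = p ∧ q⁻¹ ∈ locRing (M.comp b hgen hbir) y := by
  classical
  haveI := hM.noeth
  set z := b y with hz
  haveI := (hM.normal z).1
  haveI := (hM.normal z).2
  let A := M.Z.presheaf.stalk z
  let m := maximalIdeal A
  haveI : Flat (M.Z.fromSpecStalk z) := H23.RatExtend.flat_fromSpecStalk M.Z z
  have hloc : BlowUp.IsBlowUp (PointBlow.locB b z) (BlowUpLib.centre (A := A) m) := by
    have h := BlowUpLib.isBlowUp_of_isPullback (IsPullback.of_hasPullback b (M.Z.fromSpecStalk z)).flip hb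
    rwa [PointBlow.comap_fromSpecStalk_eq, hC] at h
  obtain ⟨y', hy', -⟩ := Scheme.Pullback.exists_preimage_pullback (f := b) (g := M.Z.fromSpecStalk z) y
    (closedPoint A) Scheme.fromSpecStalk_closedPoint.symm
  haveI := H23.FFDescent.isIso_stalkMap_of_flat_of_isPreimmersion (PointBlow.locTo b z) y'
  have hnorm := (RatSing.isNormalScheme_blowUp hN hd hA (PointBlow.locB b z) hloc y').2
  haveI := hnorm
  have hic : IsIntegrallyClosed (Y.presheaf.stalk y) := by
    have h : IsIntegrallyClosed (Y.presheaf.stalk (PointBlow.locTo b z y')) :=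
      IsIntegrallyClosed.of_equiv (asIso ((PointBlow.locTo b z).stalkMap y')).commRingCatIsoToRingEquiv.symm
    exact hy' ▸ h
  refine ⟨hic, fun hyc hcpl => ?_, ?_⟩
  · haveI := hcpl.1
    haveI := hcpl.2
    have hyc' : IsClosed ({y'} : Set ↥(pullback b (M.Z.fromSpecStalk z))) := by
      have := (hy'.symm ▸ hyc).preimage (PointBlow.locTo b z).continuous
      rwa [← Set.image_singleton, (PointBlow.locTo b z).isEmbedding.injective.preimage_image] at this
    have hn := S7302.result A hN hd hA _ (PointBlow.locB b z) hloc y' hyc'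
    haveI : IsLocallyNoetherian Y := by
      haveI : IsProper b := BlowUpLib.isProper_of_isBlowUp (C := C) hb fun U => by
        haveI : IsNoetherianRing Γ(M.Z, U.1) := IsLocallyNoetherian.component_noetherian U
        exact IsNoetherian.noetherian _
      exact LocallyOfFiniteType.isLocallyNoetherian b
    haveI : IsNoetherianRing ((pullback b (M.Z.fromSpecStalk z)).presheaf.stalk y') :=
      isNoetherianRing_of_ringEquiv _ (asIso ((PointBlow.locTo b z).stalkMap y')).commRingCatIsoToRingEquiv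
    exact hy' ▸ cpl_normal_of_iso (inv ((PointBlow.locTo b z).stalkMap y')) hn
  obtain ⟨e, he⟩ := BlowUpLib.exists_iso hloc (BlowUpLib.isBlowUp_local m)
  obtain ⟨⟨a, ha⟩, t, ht⟩ := BlowUpLib.chart_covers m (e.hom y')
  let B := CommRingCat.of (BlowUp.affineAlgebra A m a)
  let g : Spec B ⟶ Y := BlowUpLib.chart m ⟨a, ha⟩ ≫ e.inv ≫ PointBlow.locTo b z
  have hgb : g ≫ b = Spec.map (CommRingCat.ofHom (algebraMap A (BlowUp.affineAlgebra A m a))) ≫ M.Z.fromSpecStalk z := by
    simp only [g, Category.assoc]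
    rw [pullback.condition, show pullback.snd b (M.Z.fromSpecStalk z) = PointBlow.locB b z from rfl, ← he,
      Category.assoc, Iso.inv_hom_id_assoc, BlowUpLib.chart_toBase_assoc]
  have hgt : g t = y := by
    simp only [g, Scheme.Hom.comp_apply]
    rw [ht, ← Scheme.Hom.comp_apply e.hom, e.hom_inv_id]
    exact hy'
  haveI : IsIso (g.stalkMap t) := by
    simp only [g, Scheme.Hom.stalkMap_comp]
    haveI : IsIso ((PointBlow.locTo b z).stalkMap (e.inv (BlowUpLib.chart m ⟨a, ha⟩ t))) :=
      H23.FFDescent.isIso_stalkMap_of_flat_of_isPreimmersion _ _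
    infer_instance
  let M' := M.comp b hgen hbir
  let Φ : B ⟶ KK := StructureSheaf.toStalk B t ≫ inv (g.stalkMap t) ≫ M'.toKHom (g t)
  have hΦg : Spec.map Φ ≫ g = M'.genHom := by
    rw [← M'.spec_toK (g t)]
    simp only [Φ, Spec.map_comp, Category.assoc]
    congr 1
    have h1 : Spec.map (g.stalkMap t) ≫ Y.fromSpecStalk (g t) = Spec.map (StructureSheaf.toStalk B t) ≫ g := by
      rw [Scheme.SpecMap_stalkMap_fromSpecStalk, Spec.fromSpecStalk_eq]
      rfl
    erw [← h1]
    rw [← Spec.map_comp_assoc, IsIso.hom_inv_id, Spec.map_id, Category.id_comp]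
    rfl
  have hΦ : CommRingCat.ofHom (algebraMap A (BlowUp.affineAlgebra A m a)) ≫ Φ = M.toKHom z := by
    apply Spec.map_injective
    rw [← cancel_mono (M.Z.fromSpecStalk z), Spec.map_comp, Category.assoc, ← hgb, reassoc_of% hΦg,
      M.comp_genHom b hgen hbir, M.spec_toK]
  have hΦA : ∀ r : A, Φ (algebraMap A (BlowUp.affineAlgebra A m a) r) = M.toKHom z r := fun r => congr($hΦ r)
  have hloc' : locRing M' (g t) = locRing M' y := by rw [hgt]
  have hΦT : ∀ r : B, Φ r ∈ locRing M' y := fun r => hloc' ▸ (⟨_, rfl⟩ : Φ r ∈ locRing M' (g t))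
  have ha0 : a ≠ 0 := by
    rintro rfl
    haveI : Subsingleton (Localization.Away (0 : A)) := IsLocalization.subsingleton (Submonoid.mem_powers (0 : A))
    haveI : Subsingleton (BlowUp.affineAlgebra A m (0 : A)) := Subtype.val_injective.subsingleton
    exact t.2.ne_top ((Ideal.eq_top_iff_one _).2 (Subsingleton.elim (0 : BlowUp.affineAlgebra A m (0 : A)) 1 ▸ zero_mem _))
  let a₀ : locRing M z := ⟨M.toKHom z a, a, rfl⟩
  have hane : M.toKHom z a ≠ 0 := fun h => ha0 (M.toK_injective z (h.trans (map_zero _).symm))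
  have hfrac : ∀ (x : A) (hx : x ∈ m), Φ ⟨IsLocalization.mk' (Localization.Away a) x ⟨a, Submonoid.mem_powers a⟩,
      Algebra.subset_adjoin ⟨x, hx, rfl⟩⟩ = M.toKHom z x / M.toKHom z a := by
    intro x hx
    rw [eq_div_iff hane, ← hΦA, ← hΦA, ← map_mul]
    refine congrArg Φ (Subtype.ext ?_)
    exact IsLocalization.mk'_spec (Localization.Away a) x ⟨a, Submonoid.mem_powers a⟩
  refine ⟨a₀, (mem_maximalIdeal_iff M z a).2 ha, hane, ?_, ?_⟩
  · rintro ⟨_, x, rfl⟩ hx
    exact hfrac x ((mem_maximalIdeal_iff M z x).1 hx) ▸ hΦT _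
  · have hchart : ∀ r : B, Φ r ∈ chartK (locRing M z) a₀ := by
      rintro ⟨r, hr⟩
      induction hr using Algebra.adjoin_induction with
      | mem r hr =>
        obtain ⟨x, hx, rfl⟩ := hr
        rw [hfrac x hx]
        exact Subring.subset_closure (Or.inr ⟨⟨_, x, rfl⟩, (mem_maximalIdeal_iff M z x).2 hx, rfl⟩)
      | algebraMap r =>
        rw [show (⟨algebraMap A (Localization.Away a) r, _⟩ : BlowUp.affineAlgebra A m a) = algebraMap A _ r from rfl, hΦA]
        exact Subring.subset_closure (Or.inl ⟨r, rfl⟩)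
      | add p q hp hq ihp ihq =>
        rw [show (⟨p + q, _⟩ : BlowUp.affineAlgebra A m a) = ⟨p, hp⟩ + ⟨q, hq⟩ from rfl, map_add]
        exact add_mem ihp ihq
      | mul p q hp hq ihp ihq =>
        rw [show (⟨p * q, _⟩ : BlowUp.affineAlgebra A m a) = ⟨p, hp⟩ * ⟨q, hq⟩ from rfl, map_mul]
        exact mul_mem ihp ihq
    intro c hc
    rw [← hloc'] at hc ⊢
    obtain ⟨s, rfl⟩ := hc
    letI : Algebra B ((Spec B).presheaf.stalk t) := (StructureSheaf.toStalk B t).hom.toAlgebra
    haveI : IsLocalization.AtPrime ((Spec B).presheaf.stalk t) t.asIdeal :=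
      StructureSheaf.IsLocalization.to_stalk (R := B) t
    obtain ⟨⟨p, q⟩, hpq⟩ := IsLocalization.surj t.asIdeal.primeCompl (g.stalkMap t s)
    let ψ : (Spec B).presheaf.stalk t →+* KK := (inv (g.stalkMap t) ≫ M'.toKHom (g t)).hom
    have hψ : ∀ r : B, ψ (algebraMap B ((Spec B).presheaf.stalk t) r) = Φ r := fun r => rfl
    have hψs : ψ (g.stalkMap t s) = M'.toKHom (g t) s := by
      show (g.stalkMap t ≫ inv (g.stalkMap t) ≫ M'.toKHom (g t)) s = _
      rw [IsIso.hom_inv_id_assoc]
      rfl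
    obtain ⟨v, hv⟩ := (IsLocalization.map_units ((Spec B).presheaf.stalk t) q).exists_left_inv
    have hq1 : ψ v * Φ q.1 = 1 := by rw [← hψ, ← map_mul, hv, map_one]
    refine ⟨Φ p, hchart p, Φ q.1, hchart q.1, right_ne_zero_of_mul_eq_one hq1, ?_, ?_⟩
    · rw [← hψ p, ← hpq, map_mul, hψs]
      rfl
    · rw [← eq_inv_of_mul_eq_one_left hq1]
      exact ⟨_, rfl⟩

/-- One round: blowing up finitely many rational points. -/
theorem exists_round [IsProper M.G] (hM : Nice M.Z) (s : Finset M.Z)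
    (hs : ∀ z ∈ s, IsClosed ({z} : Set M.Z) ∧ ringKrullDim (M.Z.presheaf.stalk z) = 2 ∧
      CAlg.IsNagata (M.Z.presheaf.stalk z) ∧ Curv2.IsRationalSing (M.Z.presheaf.stalk z)) :
    ∃ (Y : Scheme.{u}) (b : Y ⟶ M.Z) (_ : IsIntegral Y) (hgen : b (genericPoint Y) = genericPoint M.Z)
      (hbir : IsIso (b.stalkMap (genericPoint Y))), IsProper b ∧ Nice Y ∧
      (∀ y, b y ∉ s → IsIso (b.stalkMap y)) ∧
      (∀ y, b y ∈ s → IsClosed ({y} : Set Y) →
        IsDomain (Curv2.cpl (M.Z.presheaf.stalk (b y))) ∧ IsIntegrallyClosed (Curv2.cpl (M.Z.presheaf.stalk (b y))) →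
        IsDomain (Curv2.cpl (Y.presheaf.stalk y)) ∧ IsIntegrallyClosed (Curv2.cpl (Y.presheaf.stalk y))) ∧
      ∀ y, b y ∈ s → ∃ a : locRing M (b y), a ∈ maximalIdeal (locRing M (b y)) ∧ (a : KK) ≠ 0 ∧
      (∀ t ∈ maximalIdeal (locRing M (b y)), (t : KK) / a ∈ locRing (M.comp b hgen hbir) y) ∧
      ∀ c ∈ locRing (M.comp b hgen hbir) y, ∃ p ∈ chartK (locRing M (b y)) a, ∃ q ∈ chartK (locRing M (b y)) a,
        q ≠ 0 ∧ c * q = p ∧ q⁻¹ ∈ locRing (M.comp b hgen hbir) y := by
  classical
  haveI := hM.noeth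
  obtain ⟨C, hC, hC'⟩ := exists_centre_finset s fun z hz => (hs z hz).1
  obtain ⟨Y, b, hb⟩ := BlowUpLib.exists_blowUp (C := C)
  haveI : IsProper b := BlowUpLib.isProper_of_isBlowUp (C := C) hb fun U => by
    haveI : IsNoetherianRing Γ(M.Z, U.1) := IsLocallyNoetherian.component_noetherian U
    exact IsNoetherian.noetherian _
  have hsupp : ∀ z, z ∈ (C.support : Set M.Z) → z ∈ s := fun z hz => by
    by_contra h
    exact (PointBlow.mem_support_iff C z).1 hz (hC' z h)
  let U : M.Z.Opens := ModPair.interior C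
  have hgs : genericPoint M.Z ∈ U := fun h => by
    obtain ⟨hc, hd, -⟩ := hs _ (hsupp _ h)
    have h0 : Order.coheight (genericPoint M.Z) = 0 := Order.coheight_eq_zero.2 fun w _ => genericPoint_specializes w
    have h2 : Order.coheight (genericPoint M.Z) = 2 :=
      WithBot.coe_eq_coe.1 (((ringKrullDim_stalk_eq_coheight _).symm.trans hd).trans (by rfl))
    exact absurd (h2.symm.trans h0) (by decide)
  haveI hUiso : IsIso (b ∣_ U) := BlowUpLib.isIso_restrict hb U le_rfl
  obtain ⟨hY, hgen, hbir⟩ : ∃ _ : IsIntegral Y, b (genericPoint Y) = genericPoint M.Z ∧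
      IsIso (b.stalkMap (genericPoint Y)) := by
    refine (Lib.BlowUpInt.isEmpty_or_birational hb).resolve_left fun hE => ?_
    exact hE.false ((inv (b ∣_ U)) ⟨genericPoint M.Z, hgs⟩).1
  haveI := hY
  have hoff : ∀ y, b y ∉ s → IsIso (b.stalkMap y) := fun y hy => by
    have hyU : b y ∈ U := fun h => hy (hsupp _ h)
    haveI : IsOpenImmersion ((b ⁻¹ᵁ U).ι ≫ b) := by
      rw [← morphismRestrict_ι]; infer_instance
    exact PurBir.isIso_stalkMap_of_mem b (W := b ⁻¹ᵁ U) hyU
  have hchart := fun y (hy : b y ∈ s) => exists_chart M hM hb hgen hbir y (hC _ hy) (hs _ hy).2.1 (hs _ hy).2.2.1 (hs _ hy).2.2.2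
  haveI : IsLocallyNoetherian Y := LocallyOfFiniteType.isLocallyNoetherian b
  haveI : CompactSpace Y := QuasiCompact.compactSpace_of_compactSpace b
  refine ⟨Y, b, hY, hgen, hbir, ‹_›, ⟨hY, {}, fun y => ⟨inferInstance, ?_⟩, hM.fin_comp b hbir,
    fun y => (NormSeq.dim_le b hbir y).trans (hM.dim _)⟩, hoff, fun y hy => (hchart y hy).2.1, fun y hy => (hchart y hy).2.2⟩
  by_cases hy : b y ∈ s
  · exact (hchart y hy).1
  · haveI := hoff y hy
    haveI := (hM.normal (b y)).2
    exact IsIntegrallyClosed.of_equiv (asIso (b.stalkMap y)).commRingCatIsoToRingEquiv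

end Groth.Agent.DoublePt
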