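import Mathlib.RingTheory.DiscreteValuationRing.TFAE
import Mathlib.RingTheory.Ideal.KrullsHeightTheorem
import Mathlib.RingTheory.AdicCompletion.Noetherian
import Mathlib.RingTheory.Localization.AtPrime.Basic
import Mathlib.RingTheory.IntegralClosure.IntegrallyClosed
import Mathlib.RingTheory.Nakayama

/-!
# There is no arc of singular points in an analytically normal surface germ
-/

set_option autoImplicit false
set_option linter.style.haveILetI false
set_option linter.unusedSectionVars false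
set_option maxHeartbeats 800000

universe u v

open IsLocalRing

namespace Groth.Agent.DoublePt

variable {K : Type u} [Field K] {R : ℕ → Subring K} [∀ n, IsLocalRing (R n)] (hmono : Monotone R)

/-- A chain of local rings along an arc. -/
structure Arc (x : K) (v w a b : ℕ → K) : Prop where
  ne : x ≠ 0
  mem_a : ∀ n, a n ∈ R 0
  mem_b : ∀ n, b n ∈ R 0
  gen : ∀ n, ∃ (hx : x ∈ R n) (hv : v n ∈ R n) (hw : w n ∈ R n),
    maximalIdeal (R n) = Ideal.span {⟨x, hx⟩, ⟨v n, hv⟩, ⟨w n, hw⟩}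
  recv : ∀ n, v n = x * (v (n + 1) + a n)
  recw : ∀ n, w n = x * (w (n + 1) + b n)
  two : ∀ n (p q : R n), maximalIdeal (R n) ≠ Ideal.span {p, q}

variable {x : K} {v w a b : ℕ → K}

/-- The polynomial approximation of the arc. -/
def phi (x : K) (a : ℕ → K) (n : ℕ) : K := ∑ j ∈ Finset.range n, a j * x ^ (j + 1)

theorem Arc.symm (h : Arc (R := R) x v w a b) : Arc (R := R) x w v b a := by
  refine ⟨h.ne, h.mem_b, h.mem_a, fun n => ?_, h.recw, h.recv, h.two⟩
  obtain ⟨hx, hv, hw, he⟩ := h.gen n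
  exact ⟨hx, hw, hv, he.trans (by rw [Set.pair_comm (⟨v n, hv⟩ : R n)])⟩

theorem Arc.eq_pow (h : Arc (R := R) x v w a b) : ∀ n, v 0 = x ^ n * v n + phi x a n
  | 0 => by simp [phi]
  | n + 1 => by
    rw [h.eq_pow n, phi, phi, Finset.sum_range_succ, h.recv n]
    ring

theorem Arc.mem_x (h : Arc (R := R) x v w a b) (n : ℕ) : x ∈ R n := (h.gen n).choose

include hmono in
theorem Arc.tail_mem (h : Arc (R := R) x v w a b) (i : ℕ) : ∀ d, ∃ t ∈ R i, phi x a (i + d) - phi x a i = x ^ (i + 1) * t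
  | 0 => ⟨0, zero_mem _, by simp⟩
  | d + 1 => by
    obtain ⟨t, ht, he⟩ := h.tail_mem i d
    refine ⟨t + a (i + d) * x ^ d,
      add_mem ht (mul_mem (hmono (Nat.zero_le i) (h.mem_a _)) (pow_mem (h.mem_x i) _)), ?_⟩
    rw [← add_assoc, phi, Finset.sum_range_succ, ← phi, add_sub_right_comm, he]
    ring

include hmono in
theorem Arc.approx_mem (h : Arc (R := R) x v w a b) (J : ℕ) : v 0 - phi x a J ∈ R 0 :=
  sub_mem (h.gen 0).choose_spec.choose
    (Subring.sum_mem _ fun j _ => mul_mem (h.mem_a j) (pow_mem (h.mem_x 0) _))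

include hmono in
theorem Arc.shift (h : Arc (R := R) x v w a b) (i d : ℕ) :
    ∃ (v' : K) (hv : v' ∈ R i) (hx : x ∈ R i) (hw : w i ∈ R i),
      v 0 - phi x a (i + d) = x ^ i * v' ∧ (⟨v', hv⟩ : R i) ∈ maximalIdeal (R i) ∧
      maximalIdeal (R i) = Ideal.span {⟨x, hx⟩, ⟨v', hv⟩, ⟨w i, hw⟩} := by
  obtain ⟨t, ht, he⟩ := h.tail_mem hmono i d
  obtain ⟨hx, hv, hw, hgen⟩ := h.gen i
  have hv' : v i - x * t ∈ R i := sub_mem hv (mul_mem hx ht)
  have e : (⟨v i - x * t, hv'⟩ : R i) = ⟨v i, hv⟩ - ⟨x, hx⟩ * ⟨t, ht⟩ := rfl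
  have hsp : maximalIdeal (R i) = Ideal.span {⟨x, hx⟩, ⟨v i - x * t, hv'⟩, ⟨w i, hw⟩} := by
    rw [hgen, e]
    refine le_antisymm (Ideal.span_le.2 ?_) (Ideal.span_le.2 ?_)
    · rintro z (rfl | rfl | rfl)
      · exact Ideal.subset_span (Set.mem_insert _ _)
      · have h1 : (⟨v i, hv⟩ - ⟨x, hx⟩ * ⟨t, ht⟩ : R i) + ⟨x, hx⟩ * ⟨t, ht⟩ = ⟨v i, hv⟩ := sub_add_cancel _ _
        have h2 : (⟨v i, hv⟩ - ⟨x, hx⟩ * ⟨t, ht⟩ : R i) + ⟨x, hx⟩ * ⟨t, ht⟩ ∈
            Ideal.span {⟨x, hx⟩, ⟨v i, hv⟩ - ⟨x, hx⟩ * ⟨t, ht⟩, ⟨w i, hw⟩} :=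
          add_mem (Ideal.subset_span (Set.mem_insert_of_mem _ (Set.mem_insert _ _)))
            (Ideal.mul_mem_right _ _ (Ideal.subset_span (Set.mem_insert _ _)))
        rwa [h1] at h2
      · exact Ideal.subset_span (Set.mem_insert_of_mem _ (Set.mem_insert_of_mem _ rfl))
    · rintro z (rfl | rfl | rfl)
      · exact Ideal.subset_span (Set.mem_insert _ _)
      · exact sub_mem (Ideal.subset_span (Set.mem_insert_of_mem _ (Set.mem_insert _ _)))
          (Ideal.mul_mem_right _ _ (Ideal.subset_span (Set.mem_insert _ _)))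
      · exact Ideal.subset_span (Set.mem_insert_of_mem _ (Set.mem_insert_of_mem _ rfl))
  refine ⟨_, hv', hx, hw, ?_, ?_, hsp⟩
  · rw [h.eq_pow i]
    linear_combination -he
  · rw [hsp]
    exact Ideal.subset_span (Set.mem_insert_of_mem _ (Set.mem_insert _ _))

include hmono in
/-- The maximal ideal of the first ring is divisible by the parameter upstairs. -/
theorem Arc.dvd_pow (h : Arc (R := R) x v w a b) {i : ℕ} (hi : 0 < i) (J : ℕ) {z : R 0}
    (hz : z ∈ maximalIdeal (R 0) ^ J) : ∃ t ∈ R i, (z : K) = x ^ J * t := by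
  induction J generalizing z with
  | zero => exact ⟨z, hmono (Nat.zero_le i) z.2, by rw [pow_zero, one_mul]⟩
  | succ J ih =>
    rw [pow_succ] at hz
    induction hz using Submodule.mul_induction_on' with
    | mem_mul_mem p hp q hq =>
      obtain ⟨t, ht, he⟩ := ih hp
      obtain ⟨hx, hv, hw, hgen⟩ := h.gen 0
      rw [hgen, Ideal.mem_span_insert] at hq
      obtain ⟨c, r, hr, rfl⟩ := hq
      rw [Ideal.mem_span_pair] at hr
      obtain ⟨c', c'', rfl⟩ := hr
      have hle : ∀ {z : K}, z ∈ R 0 → z ∈ R i := fun hz => hmono (Nat.zero_le i) hz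
      have h1 : ∀ {z : K}, z ∈ R 1 → z ∈ R i := fun hz => hmono hi hz
      refine ⟨t * (c + c' * (v 1 + a 0) + c'' * (w 1 + b 0)), mul_mem ht (add_mem (add_mem (hle c.2)
        (mul_mem (hle c'.2) (add_mem (h1 (h.gen 1).choose_spec.choose) (hle (h.mem_a 0)))))
        (mul_mem (hle c''.2) (add_mem (h1 (h.gen 1).choose_spec.choose_spec.choose) (hle (h.mem_b 0))))), ?_⟩
      show (p : K) * (c * x + (c' * v 0 + c'' * w 0)) = _
      rw [he, h.recv 0, h.recw 0]
      ring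
    | add p _ q _ hp hq =>
      obtain ⟨t, ht, he⟩ := hp
      obtain ⟨t', ht', he'⟩ := hq
      exact ⟨t + t', add_mem ht ht', by rw [mul_add, ← he, ← he']; rfl⟩

section Completion

variable {S : Type v} [CommRing S] [IsDomain S] [IsLocalRing S] (ι : R 0 →+* S)

/-- The hypotheses on the completion. -/
structure Cpl : Prop where
  maxMap : (maximalIdeal (R 0)).map ι = maximalIdeal S
  comap : ∀ n (z : R 0), ι z ∈ maximalIdeal S ^ n → z ∈ maximalIdeal (R 0) ^ n
  dense : ∀ n (s : S), ∃ z : R 0, s - ι z ∈ maximalIdeal S ^ n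

variable {ι}

include hmono in
theorem Arc.core (h : Arc (R := R) x v w a b) (hC : Cpl ι) {V W : S}
    (hV : ∀ J, ∃ z : R 0, (z : K) = v 0 - phi x a J ∧ V - ι z ∈ maximalIdeal S ^ J)
    (hW : ∀ J, ∃ z : R 0, (z : K) = w 0 - phi x b J ∧ W - ι z ∈ maximalIdeal S ^ J)
    {X : S} (hX : X = ι ⟨x, h.mem_x 0⟩) {s r e : S} (ha : ∃ n : ℕ, ∃ c d : S, IsUnit e ∧ s = X ^ n * e + c * V + d * W)
    (hr : (∃ c d : S, r = c * V + d * W) ∨ ∃ (m : ℕ) (f c d : S), IsUnit f ∧ r = X ^ m * f + c * V + d * W)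
    (hrel : s * W = r * V) : False := by
  obtain ⟨n, c, d, he, hs⟩ := ha
  subst hX hs
  let i := n + 1
  let D := n + 1
  let J := i + D
  obtain ⟨vJ, hvJ, hVJ⟩ := hV J
  obtain ⟨wJ, hwJ, hWJ⟩ := hW J
  let π := Ideal.Quotient.mk (maximalIdeal S ^ J)
  obtain ⟨v', hv', hx, hw₀, hve, -, hgenv⟩ := h.shift hmono i D
  obtain ⟨w', hw', -, -, hwe, hwm, -⟩ := h.symm.shift hmono i D
  have hπV : π V = π (ι vJ) := Ideal.Quotient.eq.2 hVJ
  have hπW : π W = π (ι wJ) := Ideal.Quotient.eq.2 hWJ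
  have hsurj : ∀ t : S, ∃ z : R 0, π t = π (ι z) := fun t => (hC.dense J t).imp fun z hz => Ideal.Quotient.eq.2 hz
  have hle : ∀ {z : K}, z ∈ R 0 → z ∈ R i := fun hz => hmono (Nat.zero_le i) hz
  let up : R 0 →+* R i := Subring.inclusion (hmono (Nat.zero_le i))
  have hunit : ∀ {t : S} {z : R 0}, IsUnit t → π t = π (ι z) → IsUnit (up z) := fun {t z} ht hz => by
    refine IsUnit.map up (notMem_maximalIdeal.1 fun hzm => ?_)
    refine (mem_maximalIdeal t).1 ?_ ht
    have h1 : ι z ∈ maximalIdeal S := hC.maxMap ▸ Ideal.mem_map_of_mem ι hzm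
    have h2 : t - ι z ∈ maximalIdeal S := Ideal.pow_le_self (by omega) (Ideal.Quotient.eq.1 hz)
    simpa using add_mem h2 h1
  obtain ⟨e0, he0⟩ := hsurj e
  obtain ⟨c0, hc0⟩ := hsurj c
  obtain ⟨d0, hd0⟩ := hsurj d
  obtain ⟨r0, hr0⟩ := hsurj r
  let X0 : R 0 := ⟨x, h.mem_x 0⟩
  have hq : (X0 ^ n * e0 + c0 * vJ + d0 * wJ) * wJ - r0 * vJ ∈ maximalIdeal (R 0) ^ J := by
    refine hC.comap J _ (Ideal.Quotient.eq_zero_iff_mem.1 ?_)
    show π _ = 0
    simp only [map_sub, map_add, map_mul, map_pow, ← he0, ← hc0, ← hd0, ← hr0, ← hπV, ← hπW]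
    rw [← sub_eq_zero.2 (congrArg π hrel)]
    simp only [map_sub, map_add, map_mul, map_pow]
    rfl
  obtain ⟨τ, hτ, hτe⟩ := h.dvd_pow hmono (Nat.succ_pos n) J hq
  have hxi : x ^ i ≠ 0 := pow_ne_zero _ h.ne
  have hd' : (c0 : K) * v' + d0 * w' ∈ R i := add_mem (mul_mem (hle c0.2) hv') (mul_mem (hle d0.2) hw')
  let E : R i := up e0 + ⟨x, hx⟩ * ⟨_, hd'⟩
  have hxm : (⟨x, hx⟩ : R i) ∈ maximalIdeal (R i) := hgenv ▸ Ideal.subset_span (Set.mem_insert _ _)
  have hEu : IsUnit E := notMem_maximalIdeal.1 fun hE =>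
    (mem_maximalIdeal _).1 (by simpa [E] using sub_mem hE (Ideal.mul_mem_right ⟨_, hd'⟩ _ hxm)) (hunit he he0)
  have hEq : x ^ n * w' * (E : K) = r0 * v' + x ^ D * τ := by
    refine mul_left_cancel₀ hxi ?_
    have h1 : ((X0 ^ n * e0 + c0 * vJ + d0 * wJ) * wJ - r0 * vJ : R 0) =
        (((x ^ n * e0 + c0 * (x ^ i * v') + d0 * (x ^ i * w')) * (x ^ i * w') - r0 * (x ^ i * v')) : K) := by
      rw [← hve, ← hwe, ← hvJ, ← hwJ]
      rfl
    rw [h1] at hτe
    show x ^ i * (x ^ n * w' * ((e0 : K) + x * (c0 * v' + d0 * w'))) = _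
    have e2 : x ^ J = x ^ i * x ^ D := pow_add x i D
    have e1 : x ^ i = x ^ n * x := pow_succ x n
    rw [e2, e1] at hτe
    rw [e1]
    linear_combination hτe
  -- the coefficient of `v'`
  have hr' : (∃ t ∈ R i, (r0 : K) = x ^ n * t) ∨ ∃ m < n, ∃ u : R i, IsUnit u ∧ (r0 : K) = x ^ m * u := by
    have key : ∀ (c d : S) (z : R 0), π (c * V + d * W) = π (ι z) → ∃ t ∈ R i, (z : K) = x ^ i * t := fun c d z hz => by
      obtain ⟨c1, hc1⟩ := hsurj c
      obtain ⟨d1, hd1⟩ := hsurj d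
      have hm : z - (c1 * vJ + d1 * wJ) ∈ maximalIdeal (R 0) ^ J := by
        refine hC.comap J _ (Ideal.Quotient.eq_zero_iff_mem.1 ?_)
        show π _ = 0
        simp only [map_sub, map_add, map_mul, ← hc1, ← hd1, ← hπV, ← hπW, ← hz]
        exact sub_self _
      obtain ⟨t, ht, hte⟩ := h.dvd_pow hmono (Nat.succ_pos n) J hm
      refine ⟨c1 * v' + d1 * w' + x ^ D * t,
        add_mem (add_mem (mul_mem (hle c1.2) hv') (mul_mem (hle d1.2) hw')) (mul_mem (pow_mem hx D) ht), ?_⟩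
      have hte' : (z : K) - (c1 * (x ^ i * v') + d1 * (x ^ i * w')) = x ^ (i + D) * t := by
        rw [← hve, ← hwe, ← hvJ, ← hwJ]
        exact hte
      rw [show x ^ (i + D) = x ^ i * x ^ D from pow_add x i D] at hte'
      linear_combination hte'
    rcases hr with ⟨c', d', rfl⟩ | ⟨m, f, c', d', hf, rfl⟩
    · obtain ⟨t, ht, hte⟩ := key c' d' r0 hr0
      exact Or.inl ⟨x * t, mul_mem hx ht, by rw [hte, show x ^ i = x ^ n * x from pow_succ x n, mul_assoc]⟩
    · obtain ⟨f0, hf0⟩ := hsurj f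
      obtain ⟨t, ht, hte⟩ := key c' d' (r0 - X0 ^ m * f0) (by
        simp only [X0, map_sub, map_mul, map_pow, ← hr0, ← hf0, map_add]
        ring)
      have hte' : (r0 : K) - x ^ m * f0 = x ^ i * t := hte
      by_cases hmn : n ≤ m
      · refine Or.inl ⟨x ^ (m - n) * f0 + x * t, add_mem (mul_mem (pow_mem hx _) (hle f0.2)) (mul_mem hx ht), ?_⟩
        rw [mul_add, ← mul_assoc, ← pow_add, Nat.add_sub_cancel' hmn]
        rw [show x ^ i = x ^ n * x from pow_succ x n] at hte'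
        linear_combination hte'
      · obtain ⟨l, hl⟩ : ∃ l, i = m + (l + 1) := ⟨i - m - 1, by omega⟩
        refine Or.inr ⟨m, by omega, up f0 + ⟨x, hx⟩ * ⟨x ^ l * t, mul_mem (pow_mem hx l) ht⟩, ?_, ?_⟩
        · exact notMem_maximalIdeal.1 fun hu => (mem_maximalIdeal _).1
            (by simpa using sub_mem hu (Ideal.mul_mem_right ⟨x ^ l * t, mul_mem (pow_mem hx l) ht⟩ _ hxm)) (hunit hf hf0)
        · rw [hl, pow_add, pow_succ'] at hte'
          show (r0 : K) = x ^ m * (f0 + x * (x ^ l * t))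
          linear_combination hte'
  have two' : ∀ (p q o : R i), maximalIdeal (R i) = Ideal.span {p, q, o} → o ∈ Ideal.span {p, q} → False := fun p q o hm ho => by
    refine h.two i p q (hm.trans (le_antisymm (Ideal.span_le.2 ?_) (Ideal.span_mono ?_)))
    · rintro z (rfl | rfl | rfl)
      exacts [Ideal.subset_span (Set.mem_insert _ _), Ideal.subset_span (Set.mem_insert_of_mem _ rfl), ho]
    · rintro z (rfl | rfl) <;> simp
  have hgenw : maximalIdeal (R i) = Ideal.span {⟨x, hx⟩, ⟨v', hv'⟩, ⟨w', hw'⟩} := by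
    refine le_antisymm ?_ (Ideal.span_le.2 ?_)
    · have hwi : (⟨w i, hw₀⟩ : R i) ∈ Ideal.span {⟨x, hx⟩, ⟨v', hv'⟩, ⟨w', hw'⟩} := by
        obtain ⟨t, ht, hte⟩ := h.symm.tail_mem hmono i D
        have h2 : x ^ i * w i = x ^ i * (w' + x * t) := by
          rw [mul_add, ← hwe, h.symm.eq_pow i]
          linear_combination hte
        rw [show (⟨w i, hw₀⟩ : R i) = ⟨w', hw'⟩ + ⟨x, hx⟩ * ⟨t, ht⟩ from Subtype.ext (mul_left_cancel₀ hxi h2)]
        exact add_mem (Ideal.subset_span (Set.mem_insert_of_mem _ (Set.mem_insert_of_mem _ rfl)))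
          (Ideal.mul_mem_right _ _ (Ideal.subset_span (Set.mem_insert _ _)))
      rw [hgenv, Ideal.span_le]
      rintro z (rfl | rfl | rfl)
      exacts [Ideal.subset_span (Set.mem_insert _ _),
        Ideal.subset_span (Set.mem_insert_of_mem _ (Set.mem_insert _ _)), hwi]
    · rintro z (rfl | rfl | rfl)
      exacts [hxm, hgenv ▸ Ideal.subset_span (Set.mem_insert_of_mem _ (Set.mem_insert _ _)), hwm]
  rcases hr' with ⟨t, ht, hte⟩ | ⟨m, hm, u, hu, hte⟩
  · refine two' _ _ _ hgenw ((Ideal.unit_mul_mem_iff_mem _ hEu).1 ?_)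
    refine Ideal.mem_span_pair.2 ⟨⟨τ, hτ⟩, ⟨t, ht⟩, Subtype.ext (mul_left_cancel₀ (pow_ne_zero n h.ne) ?_)⟩
    show x ^ n * (τ * x + t * v') = x ^ n * (E * w')
    rw [show x ^ D = x ^ n * x from pow_succ x n, hte] at hEq
    linear_combination -hEq
  · obtain ⟨l, hl⟩ : ∃ l, n = m + (l + 1) := ⟨n - m - 1, by omega⟩
    refine two' ⟨x, hx⟩ ⟨w', hw'⟩ ⟨v', hv'⟩ (hgenw.trans (by rw [Set.pair_comm (⟨v', hv'⟩ : R i)]))
      ((Ideal.unit_mul_mem_iff_mem _ hu).1 ?_)
    refine Ideal.mem_span_pair.2 ⟨⟨-(x ^ (l + 1) * τ), neg_mem (mul_mem (pow_mem hx _) hτ)⟩,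
      ⟨x ^ (l + 1) * E, mul_mem (pow_mem hx _) E.2⟩, Subtype.ext (mul_left_cancel₀ (pow_ne_zero m h.ne) ?_)⟩
    show x ^ m * (-(x ^ (l + 1) * τ) * x + x ^ (l + 1) * E * w') = x ^ m * (u * v')
    rw [hte, show D = n + 1 from rfl, pow_succ, hl, pow_add] at hEq
    linear_combination hEq

variable [IsNoetherianRing S] [IsIntegrallyClosed S] [IsAdicComplete (maximalIdeal S) S]

theorem height_le_one_of_ne (hdim : ringKrullDim S ≤ 2) {P : Ideal S} [P.IsPrime] (hPm : P ≠ maximalIdeal S) :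
    P.height ≤ 1 := by
  have hlt : P < maximalIdeal S := lt_of_le_of_ne (le_maximalIdeal Ideal.IsPrime.ne_top') hPm
  have h1 := Order.add_one_le_of_lt (Ideal.height_strict_mono_of_isPrime hlt)
  have h2 : (maximalIdeal S).height ≤ 2 :=
    WithBot.coe_le_coe.1 ((IsLocalRing.maximalIdeal_height_eq_ringKrullDim (R := S)).le.trans hdim)
  exact WithTop.le_of_add_le_add_right (WithTop.natCast_ne_top 1) (h1.trans (h2.trans_eq one_add_one_eq_two.symm))

include hmono in
/-- No arc of singular points in an analytically normal surface germ. -/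
theorem Arc.false (h : Arc (R := R) x v w a b) (hC : Cpl ι) (hdim : ringKrullDim S = 2) : False := by
  classical
  let X := ι ⟨x, h.mem_x 0⟩
  have hx0 : (⟨x, h.mem_x 0⟩ : R 0) ∈ maximalIdeal (R 0) := by
    obtain ⟨hx, hv, hw, hg⟩ := h.gen 0
    exact hg ▸ Ideal.subset_span (Set.mem_insert _ _)
  have hXm : X ∈ maximalIdeal S := hC.maxMap ▸ Ideal.mem_map_of_mem ι hx0
  -- the limit of the approximations
  have hlim : ∀ {v w a b : ℕ → K}, Arc (R := R) x v w a b →
      ∃ V : S, ∀ J, ∃ z : R 0, (z : K) = v 0 - phi x a J ∧ V - ι z ∈ maximalIdeal S ^ J := by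
    intro v w a b h
    let f : ℕ → S := fun J => ι ⟨_, h.approx_mem hmono J⟩
    obtain ⟨L, hL⟩ := IsPrecomplete.prec (I := maximalIdeal S) (M := S) inferInstance (f := f) (fun {m n} hmn => by
      rw [SModEq.sub_mem, smul_eq_mul, Ideal.mul_top]
      induction n, hmn using Nat.le_induction with
      | base => rw [sub_self]; exact zero_mem _
      | succ n hn ih =>
        have h1 : f n - f (n + 1) = ι ⟨a n, h.mem_a n⟩ * ι ⟨x, h.mem_x 0⟩ ^ (n + 1) := by
          rw [← map_sub, ← map_pow, ← map_mul]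
          refine congrArg ι (Subtype.ext ?_)
          show v 0 - phi x a n - (v 0 - phi x a (n + 1)) = a n * x ^ (n + 1)
          rw [phi, phi, Finset.sum_range_succ]
          ring
        rw [show f m - f (n + 1) = (f m - f n) + (f n - f (n + 1)) by ring, h1]
        exact add_mem ih (Ideal.mul_mem_left _ _ (Ideal.pow_le_pow_right (by omega) (Ideal.pow_mem_pow hXm _))))
    refine ⟨L, fun J => ⟨⟨_, h.approx_mem hmono J⟩, rfl, ?_⟩⟩
    have h1 := (hL J).symm
    rwa [SModEq.sub_mem, smul_eq_mul, Ideal.mul_top] at h1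
  obtain ⟨V, hV⟩ := hlim h
  obtain ⟨W, hW⟩ := hlim h.symm
  let P : Ideal S := Ideal.span {V, W}
  -- the maximal ideal
  have hgen : maximalIdeal S = Ideal.span {X} ⊔ P := by
    have hVm : ∀ {v w a b : ℕ → K} (h : Arc (R := R) x v w a b) {V : S},
        (∀ J, ∃ z : R 0, (z : K) = v 0 - phi x a J ∧ V - ι z ∈ maximalIdeal S ^ J) → V ∈ maximalIdeal S ∧
        ∀ (hv : v 0 ∈ R 0), ι ⟨v 0, hv⟩ ∈ (Ideal.span {X} ⊔ Ideal.span {V}) ⊔ maximalIdeal S ^ 2 := by
      intro v w a b h V hV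
      obtain ⟨hx, hv, hw, hg⟩ := h.gen 0
      obtain ⟨z, hz, hVz⟩ := hV 1
      have hdiv : ∀ J, ∃ t : R 0, phi x a J = x * t := fun J =>
        ⟨⟨∑ j ∈ Finset.range J, a j * x ^ j, Subring.sum_mem _ fun j _ => mul_mem (h.mem_a j) (pow_mem hx j)⟩, by
          show phi x a J = x * ∑ j ∈ Finset.range J, a j * x ^ j
          rw [phi, Finset.mul_sum]
          exact Finset.sum_congr rfl fun j _ => by ring⟩
      have hzeq : ∀ J (z : R 0), (z : K) = v 0 - phi x a J → ∃ t : R 0, z = ⟨v 0, hv⟩ - ⟨x, hx⟩ * t := fun J z hz =>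
        (hdiv J).imp fun t ht => Subtype.ext (hz.trans (by rw [ht]; rfl))
      have hVm : V ∈ maximalIdeal S := by
        obtain ⟨t, rfl⟩ := hzeq 1 z hz
        have h1 : ι (⟨v 0, hv⟩ - ⟨x, hx⟩ * t) ∈ maximalIdeal S := hC.maxMap ▸ Ideal.mem_map_of_mem ι (hg ▸
          sub_mem (Ideal.subset_span (Set.mem_insert_of_mem _ (Set.mem_insert _ _)))
            (Ideal.mul_mem_right _ _ (Ideal.subset_span (Set.mem_insert _ _))))
        simpa using add_mem ((pow_one (maximalIdeal S)).le hVz) h1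
      refine ⟨hVm, fun _ => ?_⟩
      obtain ⟨z, hz, hVz⟩ := hV 2
      obtain ⟨t, rfl⟩ := hzeq 2 z hz
      rw [show ι ⟨v 0, hv⟩ = (X * ι t + V) + -(V - ι (⟨v 0, hv⟩ - ⟨x, hx⟩ * t)) by rw [map_sub, map_mul]; ring]
      exact add_mem (Ideal.mem_sup_left (add_mem (Ideal.mem_sup_left (Ideal.mem_span_singleton'.2 ⟨ι t, mul_comm _ _⟩))
        (Ideal.mem_sup_right (Ideal.mem_span_singleton_self V)))) (Ideal.mem_sup_right (neg_mem hVz))
    obtain ⟨hVm', hv1⟩ := hVm h hV
    obtain ⟨hWm', hw1⟩ := hVm h.symm hW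
    refine le_antisymm ?_ (sup_le ((Ideal.span_singleton_le_iff_mem _).2 hXm)
      (Ideal.span_le.2 (by rintro z (rfl | rfl) <;> assumption)))
    refine Submodule.le_of_le_smul_of_le_jacobson_bot (IsNoetherian.noetherian _) (IsLocalRing.maximalIdeal_le_jacobson _) ?_
    rw [smul_eq_mul, ← pow_two, ← hC.maxMap, Ideal.map_le_iff_le_comap]
    obtain ⟨hx, hv, hw, hg⟩ := h.gen 0
    refine hg.le.trans (Ideal.span_le.2 ?_)
    rintro z (rfl | rfl | rfl)
    · exact Ideal.mem_sup_left (Ideal.mem_sup_left (Ideal.mem_span_singleton_self X))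
    · rw [SetLike.mem_coe, Ideal.mem_comap]
      rw [hC.maxMap]
      have hle : Ideal.span {V} ≤ P := Ideal.span_mono (Set.singleton_subset_iff.2 (Set.mem_insert _ _))
      exact sup_le (sup_le (le_trans le_sup_left le_sup_left) (le_trans hle (le_trans le_sup_right le_sup_left))) le_sup_right (hv1 hv)
    · rw [SetLike.mem_coe, Ideal.mem_comap]
      rw [hC.maxMap]
      have hle : Ideal.span {W} ≤ P := Ideal.span_mono (Set.singleton_subset_iff.2 (Set.mem_insert_of_mem _ rfl))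
      exact sup_le (sup_le (le_trans le_sup_left le_sup_left) (le_trans hle (le_trans le_sup_right le_sup_left))) le_sup_right (hw1 hw)
  -- no power of the parameter lies in `P`
  have hXP : ∀ k, X ^ k ∉ P := fun k hk => by
    obtain ⟨c, d, hcd⟩ := Ideal.mem_span_pair.1 hk
    let J := k + 1
    let π := Ideal.Quotient.mk (maximalIdeal S ^ J)
    obtain ⟨zV, hzV, hVz⟩ := hV J
    obtain ⟨zW, hzW, hWz⟩ := hW J
    obtain ⟨c0, hc0⟩ := hC.dense J c
    obtain ⟨d0, hd0⟩ := hC.dense J d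
    obtain ⟨v', hv', hx, -, hve, -, -⟩ := h.shift hmono J 0
    obtain ⟨w', hw', -, -, hwe, -, -⟩ := h.symm.shift hmono J 0
    have hm : (⟨x, h.mem_x 0⟩ : R 0) ^ k - (c0 * zV + d0 * zW) ∈ maximalIdeal (R 0) ^ J := by
      refine hC.comap J _ (Ideal.Quotient.eq_zero_iff_mem.1 ?_)
      show π _ = 0
      have e : π (X ^ k) = π (c * V + d * W) := by rw [hcd]
      simp only [map_add, map_mul, map_pow] at e
      rw [(Ideal.Quotient.eq.2 hVz : π V = π (ι zV)), (Ideal.Quotient.eq.2 hWz : π W = π (ι zW)),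
        (Ideal.Quotient.eq.2 hc0 : π c = π (ι c0)), (Ideal.Quotient.eq.2 hd0 : π d = π (ι d0))] at e
      simp only [map_sub, map_add, map_mul, map_pow]
      exact sub_eq_zero.2 e
    obtain ⟨t, ht, hte⟩ := h.dvd_pow hmono (Nat.succ_pos k) J hm
    have hte' : x ^ k - ((c0 : K) * (v 0 - phi x a (J + 0)) + d0 * (w 0 - phi x b (J + 0))) = x ^ J * t := by
      rw [add_zero, ← hzV, ← hzW]
      exact hte
    rw [hve, hwe, show x ^ J = x ^ k * x from pow_succ x k] at hte'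
    have hu : IsUnit (⟨x, hx⟩ : R J) := by
      refine IsUnit.of_mul_eq_one ⟨(c0 : K) * v' + d0 * w' + t,
        add_mem (add_mem (mul_mem (hmono (Nat.zero_le J) c0.2) hv') (mul_mem (hmono (Nat.zero_le J) d0.2) hw')) ht⟩
        (Subtype.ext (mul_left_cancel₀ (pow_ne_zero k h.ne) ?_))
      show x ^ k * (x * (c0 * v' + d0 * w' + t)) = x ^ k * 1
      linear_combination -hte'
    obtain ⟨hx', hv', hw', hg⟩ := h.gen J
    exact (mem_maximalIdeal _).1 (hg ▸ Ideal.subset_span (Set.mem_insert _ _) : (⟨x, hx⟩ : R J) ∈ maximalIdeal (R J)) hu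
  -- normal forms
  have hform : ∀ z : S, (∃ c d : S, z = c * V + d * W) ∨ ∃ (m : ℕ) (e c d : S), IsUnit e ∧ z = X ^ m * e + c * V + d * W := by
    intro z
    by_contra hno
    push Not at hno
    obtain ⟨hno1, hno2⟩ := hno
    have hall : ∀ m, ∃ z', z - X ^ m * z' ∈ P := by
      intro m
      induction m with
      | zero => exact ⟨z, by simp⟩
      | succ m ih =>
        obtain ⟨z', hz'⟩ := ih
        obtain ⟨c, d, hcd⟩ := Ideal.mem_span_pair.1 hz'
        by_cases hu : IsUnit z'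
        · exact absurd (show z = X ^ m * z' + c * V + d * W by linear_combination -hcd) (hno2 m z' c d hu)
        · obtain ⟨p, hp, q, hq, rfl⟩ := Submodule.mem_sup.1 (hgen.le ((mem_maximalIdeal z').2 hu))
          obtain ⟨p, rfl⟩ := Ideal.mem_span_singleton'.1 hp
          refine ⟨p, ?_⟩
          rw [show z - X ^ (m + 1) * p = z - X ^ m * (p * X + q) + X ^ m * q by ring]
          exact add_mem hz' (Ideal.mul_mem_left _ _ hq)
    have hzP : (Submodule.Quotient.mk z : S ⧸ P) = 0 := by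
      refine (IsHausdorff.of_isLocalRing (I := maximalIdeal S) (M := S ⧸ P) (maximalIdeal.isMaximal S).ne_top).haus _ fun m => ?_
      rw [SModEq.sub_mem, sub_zero]
      obtain ⟨z', hz'⟩ := hall m
      rw [show (Submodule.Quotient.mk z : S ⧸ P) = X ^ m • Submodule.Quotient.mk z' from (Submodule.Quotient.eq P).2 hz']
      exact Submodule.smul_mem_smul (Ideal.pow_mem_pow hXm m) trivial
    obtain ⟨c, d, hcd⟩ := Ideal.mem_span_pair.1 ((Submodule.Quotient.mk_eq_zero P).1 hzP)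
    exact hno1 c d hcd.symm
  have hform' : ∀ z ∉ P, ∃ (m : ℕ) (e c d : S), IsUnit e ∧ z = X ^ m * e + c * V + d * W := fun z hz =>
    (hform z).resolve_left fun ⟨c, d, hcd⟩ => hz (hcd ▸ Ideal.mem_span_pair.2 ⟨c, d, rfl⟩)
  haveI hP : P.IsPrime := by
    refine ⟨fun ht => hXP 0 (ht ▸ trivial), fun {z z'} hzz => ?_⟩
    by_contra! hne
    obtain ⟨m, e, c, d, he, rfl⟩ := hform' z hne.1
    obtain ⟨m', e', c', d', he', rfl⟩ := hform' z' hne.2
    refine hXP (m + m') ((Ideal.unit_mul_mem_iff_mem _ (he.mul he')).1 ?_)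
    have hp : ∀ c d : S, c * V + d * W ∈ P := fun c d => Ideal.mem_span_pair.2 ⟨c, d, rfl⟩
    have h1 : X ^ m * e * (c' * V + d' * W) + (c * V + d * W) * (X ^ m' * e' + c' * V + d' * W) ∈ P :=
      add_mem (Ideal.mul_mem_left _ _ (hp c' d')) (Ideal.mul_mem_right _ _ (hp c d))
    convert sub_mem hzz h1 using 1
    ring
  have hPm : P ≠ maximalIdeal S := fun e => hXP 1 (by rw [pow_one, e]; exact hXm)
  have hPbot : P ≠ ⊥ := fun e => by
    rw [e, sup_bot_eq] at hgen
    have h1 := Ideal.height_le_one_of_isPrincipal_of_mem_minimalPrimes (Ideal.span {X}) (maximalIdeal S)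
      ⟨⟨(maximalIdeal.isMaximal S).isPrime, hgen.ge⟩, fun Q hQ _ => hgen.le.trans hQ.2⟩
    have h2 := IsLocalRing.maximalIdeal_height_eq_ringKrullDim (R := S)
    rw [hdim] at h2
    exact absurd ((WithBot.coe_eq_coe.1 (h2.trans (by rfl)) : (maximalIdeal S).height = 2) ▸ h1) (by decide)
  -- the localisation at `P` is a discrete valuation ring
  let L := Localization.AtPrime P
  haveI : IsDomain L := IsLocalization.isDomain_localization P.primeCompl_le_nonZeroDivisors
  haveI : IsNoetherianRing L := IsLocalization.isNoetherianRing P.primeCompl _ inferInstance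
  haveI : IsIntegrallyClosed L := isIntegrallyClosed_of_isLocalization _ P.primeCompl P.primeCompl_le_nonZeroDivisors
  have hL1 : ringKrullDim L ≤ 1 := by
    rw [IsLocalization.AtPrime.ringKrullDim_eq_height P L]
    exact WithBot.coe_le_coe.2 (height_le_one_of_ne hdim.le hPm)
  haveI : Ring.KrullDimLE 1 L := Ring.krullDimLE_iff.mpr hL1
  haveI : Ring.DimensionLEOne L :=
    ⟨fun {p} hp0 hp => Ring.krullDimLE_one_iff_of_noZeroDivisors.mp inferInstance p hp0 hp⟩
  haveI : IsDedekindDomain L := {}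
  haveI : ValuationRing L := ((tfae_of_isNoetherianRing_of_isLocalRing_of_isDomain L).out 2 1
    (a := IsDedekindDomain L) (b := ValuationRing L) rfl rfl).mp inferInstance
  let g := algebraMap S L
  have hinj : Function.Injective g := IsLocalization.injective L P.primeCompl_le_nonZeroDivisors
  obtain ⟨q, hq | hq⟩ := ValuationRing.cond (g V) (g W)
  · obtain ⟨⟨r, s⟩, hrs⟩ := IsLocalization.surj P.primeCompl q
    have hrel : (s : S) * W = r * V := hinj (by
      rw [map_mul, map_mul, ← hrs, ← hq]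
      ring)
    obtain ⟨m, e, c, d, he, hs⟩ := hform' s s.2
    exact h.core hmono hC hV hW rfl ⟨m, c, d, he, hs⟩ (hform r) hrel
  · obtain ⟨⟨r, s⟩, hrs⟩ := IsLocalization.surj P.primeCompl q
    have hrel : (s : S) * V = r * W := hinj (by
      rw [map_mul, map_mul, ← hrs, ← hq]
      ring)
    obtain ⟨m, e, c, d, he, hs⟩ := hform' s s.2
    exact h.symm.core hmono hC hW hV rfl ⟨m, d, c, he, by rw [hs]; ring⟩
      ((hform r).imp (fun ⟨c, d, hc⟩ => ⟨d, c, by rw [hc]; ring⟩)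
        fun ⟨m, e, c, d, he, hr⟩ => ⟨m, e, d, c, he, by rw [hr]; ring⟩) hrel

end Completion

end Groth.Agent.DoublePt
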