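import Groth.Agent.DoublePt.Main
import Groth.Agent.R1Push.Reduction

/-!
# Resolution over a rational double point
-/

set_option autoImplicit false
set_option linter.style.haveILetI false
set_option linter.unusedSectionVars false
set_option backward.isDefEq.respectTransparency false
set_option backward.isDefEq.respectTransparency.types false
set_option maxHeartbeats 800000

universe u

open CategoryTheory CategoryTheory.Limits AlgebraicGeometry TopologicalSpace IsLocalRing
open Groth.Agent.NormSeq (Model locRing Nice)

noncomputable section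

namespace Groth.Agent.DoublePt

variable {A : CommRingCat.{u}} [IsDomain A] [IsLocalRing A] [IsNoetherianRing A] [IsIntegrallyClosed A]

/-- Modifications of a rational singularity have rational singularities. -/
theorem isRationalSing_of_modification (hN : CAlg.IsNagata A) (hdim : ringKrullDim A = 2) (hA : Curv2.IsRationalSing A)
    (M : Model (Spec A)) [IsProper M.G] (hM : Nice M.Z) (y : M.Z) : Curv2.IsRationalSing (M.Z.presheaf.stalk y) := by
  have hR := RatSing.nice_spec hN hdim
  have h0 : ∀ N : Model (Spec A), IsProper N.G → Pi1.IsNormalScheme N.Z → R1Push.h1 N = 0 := fun N hP hn => by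
    haveI := hP
    letI : N.Z.Over (Spec (CommRingCat.of A)) := ⟨N.G⟩
    haveI := hA N.Z N.G hP N.integral hn (RatUp.exists_isIso_restrict hR N.G N.bir)
    exact Module.length_eq_zero
  exact R1Push.isRationalSing_stalk_of_ratVal M y (R1Push.ratVal_of_vanishing M hM (fun Y _ g _ hbir hY D hD =>
    R1Push.vanishing_of_max hR hdim.le M hM (by rw [h0 M inferInstance hM.normal]; exact ENat.zero_ne_top)
      (fun N hP hn => by rw [h0 N hP hn]; exact bot_le) Y g hbir hY D hD) y)

/-- A rational singularity of embedding dimension at most three with normal completion has a resolution. -/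
theorem exists_resolution (hN : CAlg.IsNagata A) (hdim : ringKrullDim A = 2) (hA : Curv2.IsRationalSing A)
    (h3 : ¬ IsRegularLocalRing A → Module.finrank (ResidueField A) (CotangentSpace A) ≤ 3)
    (hcpl : IsDomain (Curv2.cpl A) ∧ IsIntegrallyClosed (Curv2.cpl A)) :
    ∃ M : Model (Spec A), IsProper M.G ∧ Nice M.Z ∧ ∀ x : M.Z, IsRegularLocalRing (M.Z.presheaf.stalk x) := by
  classical
  have hR := RatSing.nice_spec hN hdim
  haveI := hR.noeth
  let M₀ : Model (Spec A) := { Z := Spec A, G := 𝟙 _, gen := rfl, bir := inferInstance }
  haveI : IsProper M₀.G := inferInstanceAs (IsProper (𝟙 _))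
  have hrat : ∀ (Y : Scheme.{u}) [IsIntegral Y] (g : Y ⟶ M₀.Z) [IsProper g], IsIso (g.stalkMap (genericPoint Y)) →
      Nice Y → ∀ y : Y, Curv2.IsRationalSing (Y.presheaf.stalk y) := fun Y _ g _ hbir hY y => by
    haveI : IsProper (M₀.comp g (SurfSeq.map_generic g hbir) hbir).G := inferInstanceAs (IsProper (g ≫ 𝟙 _))
    exact isRationalSing_of_modification hN hdim hA (M₀.comp g (SurfSeq.map_generic g hbir) hbir) hY y
  let G₀ : Spec A ⟶ M₀.Z := 𝟙 _
  let M₁ := M₀.comp G₀ rfl inferInstance
  have hsing : ∀ y : (Spec A), ¬ IsRegularLocalRing ((Spec A).presheaf.stalk y) →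
      y = closedPoint A ∧ ¬ IsRegularLocalRing A := by
    intro y hy
    have hy0 := ((dim_of_singular hR y hy).1)
    have hyc : y = closedPoint A := ((specializes_closedPoint y).mem_closed hy0 rfl).symm
    subst hyc
    refine ⟨rfl, fun h => hy ?_⟩
    haveI := h
    letI : Algebra A ((Spec A).presheaf.stalk (closedPoint A)) := (StructureSheaf.toStalk A (closedPoint A)).hom.toAlgebra
    haveI : IsLocalization.AtPrime ((Spec A).presheaf.stalk (closedPoint A)) (maximalIdeal A) :=
      StructureSheaf.IsLocalization.to_stalk (R := A) (closedPoint A)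
    exact IsRegularLocalRing.of_ringEquiv (IsLocalization.atUnits A (maximalIdeal A).primeCompl
      (S := (Spec A).presheaf.stalk (closedPoint A)) fun a ha => notMem_maximalIdeal.1 ha).toRingEquiv
  have hiso : IsIso (StructureSheaf.toStalk A (closedPoint A)) := by
    letI : Algebra A ((Spec A).presheaf.stalk (closedPoint A)) := (StructureSheaf.toStalk A (closedPoint A)).hom.toAlgebra
    haveI : IsLocalization.AtPrime ((Spec A).presheaf.stalk (closedPoint A)) (maximalIdeal A) :=
      StructureSheaf.IsLocalization.to_stalk (R := A) (closedPoint A)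
    refine (ConcreteCategory.isIso_iff_bijective _).2 ?_
    exact (IsLocalization.atUnits A (maximalIdeal A).primeCompl
      (S := (Spec A).presheaf.stalk (closedPoint A)) fun a ha => notMem_maximalIdeal.1 ha).bijective
  let S₀ : Stage M₀ :=
    { Y := Spec A, g := G₀, hgen := rfl, hbir := inferInstance, proper := inferInstanceAs (IsProper (𝟙 _))
      nice := hR
      finite := (Set.finite_singleton (closedPoint A)).subset fun y hy => (hsing y hy).1
      three := fun y hy => by
        obtain ⟨rfl, hnr⟩ := hsing y hy
        obtain ⟨a, b, c, h⟩ := exists_three (h3 hnr)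
        let e : A ≃+* locRing M₁ (closedPoint A) :=
          ((@asIso _ _ _ _ (StructureSheaf.toStalk A (closedPoint A)) hiso).commRingCatIsoToRingEquiv).trans
            (stalkEquiv M₁ (closedPoint A))
        refine ⟨e a, e b, e c, ?_⟩
        have h' := congrArg (Ideal.map (e : A →+* locRing M₁ (closedPoint A))) h
        rw [Ideal.map_span, Set.image_insert_eq, Set.image_pair] at h'
        exact (IsLocalRing.map_ringEquiv_maximalIdeal e).symm.trans h'
      cpl := fun y hy => by
        obtain ⟨rfl, -⟩ := hsing y hy
        haveI := hiso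
        exact cpl_normal_of_iso (StructureSheaf.toStalk A (closedPoint A)) hcpl }
  obtain ⟨S, hS⟩ := exists_regular_stage hN (M₀ := M₀) hrat S₀
  exact ⟨S.M, S.proper_M, S.nice, hS⟩

end Groth.Agent.DoublePt
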