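import Mathlib.RingTheory.Ideal.Cotangent
import Mathlib.RingTheory.Nakayama
import Mathlib.Data.Fin.VecNotation
import Mathlib.Tactic.LinearCombination

/-!
# Surface double points: the quadratic relation and its two shapes
-/

set_option autoImplicit false
set_option linter.style.haveILetI false
set_option linter.unusedSectionVars false

universe u

open IsLocalRing

namespace Groth.Agent.DoublePt

variable {R : Type u} [CommRing R]

/-- A quadratic form evaluated at a triple. -/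
def quad (c : Fin 6 → R) (x y z : R) : R :=
  c 0 * x ^ 2 + c 1 * (x * y) + c 2 * (x * z) + c 3 * y ^ 2 + c 4 * (y * z) + c 5 * z ^ 2

theorem quad_sq (α β γ x y z : R) :
    quad ![α ^ 2, 2 * α * β, 2 * α * γ, β ^ 2, 2 * β * γ, γ ^ 2] x y z = (α * x + β * y + γ * z) ^ 2 := by
  simp only [quad, Fin.isValue, Matrix.cons_val]
  ring

variable [IsLocalRing R]

variable (R) in
/-- A double point of embedding dimension three. -/
structure QuadPt : Prop where
  gen : ∃ x y z : R, maximalIdeal R = Ideal.span {x, y, z}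
  two : ∀ p q : R, maximalIdeal R ≠ Ideal.span {p, q}
  rel : ∀ x y z : R, maximalIdeal R = Ideal.span {x, y, z} →
    ∃ c : Fin 6 → R, (∃ i, c i ∉ maximalIdeal R) ∧ quad c x y z ∈ maximalIdeal R ^ 3
  uniq : ∀ x y z : R, maximalIdeal R = Ideal.span {x, y, z} → ∀ c c' : Fin 6 → R,
    quad c x y z ∈ maximalIdeal R ^ 3 → quad c' x y z ∈ maximalIdeal R ^ 3 →
    (∃ i, c' i ∉ maximalIdeal R) → ∃ r : R, ∀ i, c i - r * c' i ∈ maximalIdeal R

theorem span_rot (x y z : R) : Ideal.span ({x, y, z} : Set R) = Ideal.span {y, z, x} :=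
  congrArg Ideal.span (by ext t; simp; tauto)

theorem span_swap (x y z : R) : Ideal.span ({x, y, z} : Set R) = Ideal.span {y, x, z} :=
  congrArg Ideal.span (Set.insert_comm _ _ _)

theorem span_swap' (x y z : R) : Ideal.span ({x, y, z} : Set R) = Ideal.span {x, z, y} :=
  congrArg Ideal.span (by rw [Set.pair_comm])

variable {x y z : R}

theorem mem₁ (h : maximalIdeal R = Ideal.span {x, y, z}) : x ∈ maximalIdeal R :=
  h ▸ Ideal.subset_span (Set.mem_insert _ _)

theorem mem₂ (h : maximalIdeal R = Ideal.span {x, y, z}) : y ∈ maximalIdeal R :=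
  h ▸ Ideal.subset_span (Set.mem_insert_of_mem _ (Set.mem_insert _ _))

theorem mem₃ (h : maximalIdeal R = Ideal.span {x, y, z}) : z ∈ maximalIdeal R :=
  h ▸ Ideal.subset_span (Set.mem_insert_of_mem _ (Set.mem_insert_of_mem _ rfl))

theorem exists_comb (h : maximalIdeal R = Ideal.span {x, y, z}) {t : R} (ht : t ∈ maximalIdeal R) :
    ∃ α β γ : R, t = α * x + β * y + γ * z := by
  rw [h] at ht
  obtain ⟨α, β, γ, he⟩ := Submodule.mem_span_triple.1 ht
  exact ⟨α, β, γ, he.symm⟩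

theorem QuadPt.coef₁ (hR : QuadPt R) (h : maximalIdeal R = Ideal.span {x, y, z}) {α β γ : R}
    (hm : α * x + β * y + γ * z ∈ maximalIdeal R ^ 2) : α ∈ maximalIdeal R := by
  by_contra hα
  obtain ⟨u, hu⟩ := (notMem_maximalIdeal.1 hα).exists_left_inv
  have hfg : (maximalIdeal R).FG := h ▸ Submodule.fg_span (Set.toFinite _)
  have hle : Ideal.span {y, z} ≤ maximalIdeal R := by
    rw [h]; exact Ideal.span_mono (Set.subset_insert _ _)
  refine hR.two y z (le_antisymm ?_ hle)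
  refine Submodule.le_of_le_smul_of_le_jacobson_bot hfg (IsLocalRing.maximalIdeal_le_jacobson _) ?_
  rw [smul_eq_mul, ← pow_two]
  refine h.le.trans (Ideal.span_le.2 ?_)
  rintro t (rfl | rfl | rfl)
  · rw [show t = u * -(β * y + γ * z) + u * (α * t + β * y + γ * z) by linear_combination -t * hu]
    exact Submodule.add_mem_sup (Ideal.mul_mem_left _ _ (neg_mem (Ideal.mem_span_pair.2 ⟨β, γ, rfl⟩)))
      (Ideal.mul_mem_left _ _ hm)
  · exact Submodule.mem_sup_left (Ideal.subset_span (Set.mem_insert _ _))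
  · exact Submodule.mem_sup_left (Ideal.subset_span (Set.mem_insert_of_mem _ rfl))

theorem QuadPt.coef (hR : QuadPt R) (h : maximalIdeal R = Ideal.span {x, y, z}) {α β γ : R}
    (hm : α * x + β * y + γ * z ∈ maximalIdeal R ^ 2) :
    α ∈ maximalIdeal R ∧ β ∈ maximalIdeal R ∧ γ ∈ maximalIdeal R :=
  ⟨hR.coef₁ h hm,
    hR.coef₁ (h.trans (span_rot x y z)) (α := β) (β := γ) (γ := α)
      (by rwa [show β * y + γ * z + α * x = α * x + β * y + γ * z by ring]),
    hR.coef₁ ((h.trans (span_rot x y z)).trans (span_rot y z x)) (α := γ) (β := α) (γ := β)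
      (by rwa [show γ * z + α * x + β * y = α * x + β * y + γ * z by ring])⟩

theorem QuadPt.not_mem_sq (hR : QuadPt R) (h : maximalIdeal R = Ideal.span {x, y, z}) :
    x ∉ maximalIdeal R ^ 2 := fun hx =>
  (maximalIdeal.isMaximal R).ne_top ((Ideal.eq_top_iff_one _).2
    (hR.coef h (α := 1) (β := 0) (γ := 0) (by simpa using hx)).1)

theorem QuadPt.ne₁ (hR : QuadPt R) (h : maximalIdeal R = Ideal.span {x, y, z}) : x ≠ 0 := fun e =>
  hR.not_mem_sq h (e ▸ zero_mem _)

theorem span_replace (h : maximalIdeal R = Ideal.span {x, y, z}) {t α β γ u : R}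
    (ht : t = α * x + β * y + γ * z) (hu : u * α = 1) : maximalIdeal R = Ideal.span {y, z, t} := by
  refine le_antisymm (h.le.trans (Ideal.span_le.2 ?_)) (Ideal.span_le.2 ?_)
  · rintro w (rfl | rfl | rfl)
    · exact Submodule.mem_span_triple.2 ⟨-(u * β), -(u * γ), u, by
        rw [ht]; simp only [smul_eq_mul]; linear_combination w * hu⟩
    · exact Ideal.subset_span (Set.mem_insert _ _)
    · exact Ideal.subset_span (Set.mem_insert_of_mem _ (Set.mem_insert _ _))
  · rintro w (rfl | rfl | rfl)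
    · exact mem₂ h
    · exact mem₃ h
    · rw [ht, h]; exact Submodule.mem_span_triple.2 ⟨α, β, γ, rfl⟩

theorem QuadPt.exists_gen (hR : QuadPt R) {t : R} (ht : t ∈ maximalIdeal R) (ht2 : t ∉ maximalIdeal R ^ 2) :
    ∃ x y : R, maximalIdeal R = Ideal.span {x, y, t} := by
  obtain ⟨x, y, z, h⟩ := hR.gen
  obtain ⟨α, β, γ, he⟩ := exists_comb h ht
  by_cases hα : IsUnit α
  · obtain ⟨u, hu⟩ := hα.exists_left_inv
    exact ⟨y, z, span_replace h he hu⟩
  by_cases hβ : IsUnit β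
  · obtain ⟨u, hu⟩ := hβ.exists_left_inv
    exact ⟨z, x, span_replace (h.trans (span_rot x y z)) (t := t) (α := β) (β := γ) (γ := α)
      (by rw [he]; ring) hu⟩
  by_cases hγ : IsUnit γ
  · obtain ⟨u, hu⟩ := hγ.exists_left_inv
    exact ⟨x, y, span_replace ((h.trans (span_rot x y z)).trans (span_rot y z x)) (t := t) (α := γ) (β := α)
      (γ := β) (by rw [he]; ring) hu⟩
  refine absurd ?_ ht2
  rw [he, pow_two]
  exact add_mem (add_mem (Ideal.mul_mem_mul ((mem_maximalIdeal _).2 hα) (mem₁ h))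
    (Ideal.mul_mem_mul ((mem_maximalIdeal _).2 hβ) (mem₂ h))) (Ideal.mul_mem_mul ((mem_maximalIdeal _).2 hγ) (mem₃ h))

theorem exists_quadratic (h : maximalIdeal R = Ideal.span {x, y, z}) {t : R} (ht : t ∈ maximalIdeal R ^ 2) :
    ∃ g ∈ maximalIdeal R, ∃ a b c : R, t = g * z + a * x ^ 2 + b * (x * y) + c * y ^ 2 := by
  rw [pow_two] at ht
  induction ht using Submodule.mul_induction_on' with
  | mem_mul_mem p hp q hq =>
    obtain ⟨α, β, γ, hpe⟩ := exists_comb h hp
    obtain ⟨α', β', γ', hqe⟩ := exists_comb h hq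
    refine ⟨γ * q + γ' * (α * x + β * y), add_mem (Ideal.mul_mem_left _ _ hq) (Ideal.mul_mem_left _ _
      (add_mem (Ideal.mul_mem_left _ _ (mem₁ h)) (Ideal.mul_mem_left _ _ (mem₂ h)))),
      α * α', α * β' + β * α', β * β', ?_⟩
    rw [hpe, hqe]; ring
  | add p _ q _ hp hq =>
    obtain ⟨g, hg, a, b, c, rfl⟩ := hp
    obtain ⟨g', hg', a', b', c', rfl⟩ := hq
    exact ⟨g + g', add_mem hg hg', a + a', b + b', c + c', by ring⟩

theorem exists_cubic (h : maximalIdeal R = Ideal.span {x, y, z}) {t : R} (ht : t ∈ maximalIdeal R ^ 3) :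
    ∃ g ∈ maximalIdeal R ^ 2, ∃ h₀ h₁ h₂ h₃ : R,
      t = g * z + h₀ * x ^ 3 + h₁ * (x ^ 2 * y) + h₂ * (x * y ^ 2) + h₃ * y ^ 3 := by
  rw [pow_succ] at ht
  induction ht using Submodule.mul_induction_on' with
  | mem_mul_mem p hp q hq =>
    obtain ⟨g, hg, a, b, c, hpe⟩ := exists_quadratic h hp
    obtain ⟨α, β, γ, hqe⟩ := exists_comb h hq
    refine ⟨g * q + γ * (a * x ^ 2 + b * (x * y) + c * y ^ 2), add_mem (pow_two (maximalIdeal R) ▸ Ideal.mul_mem_mul hg hq)
      (Ideal.mul_mem_left _ _ ?_), a * α, a * β + b * α, b * β + c * α, c * β, by rw [hpe, hqe]; ring⟩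
    exact add_mem (add_mem (Ideal.mul_mem_left _ _ (Ideal.pow_mem_pow (mem₁ h) 2))
      (Ideal.mul_mem_left _ _ (pow_two (maximalIdeal R) ▸ Ideal.mul_mem_mul (mem₁ h) (mem₂ h))))
      (Ideal.mul_mem_left _ _ (Ideal.pow_mem_pow (mem₂ h) 2))
  | add p _ q _ hp hq =>
    obtain ⟨g, hg, a, b, c, d, rfl⟩ := hp
    obtain ⟨g', hg', a', b', c', d', rfl⟩ := hq
    exact ⟨g + g', add_mem hg hg', a + a', b + b', c + c', d + d', by ring⟩

variable (R) in
/-- The quadratic relation is no square. -/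
def IsN : Prop := ∀ t ∈ maximalIdeal R, t ^ 2 ∈ maximalIdeal R ^ 3 → t ∈ maximalIdeal R ^ 2

/-- The quadratic relation does not vanish on, and is no square modulo, the parameter `s`. -/
def IsN' (s : R) : Prop :=
  (∃ y z : R, maximalIdeal R = Ideal.span {s, y, z}) ∧
  (∀ w ∈ maximalIdeal R, w ^ 2 ∈ Ideal.span {s} * maximalIdeal R ⊔ maximalIdeal R ^ 3 →
    w ∈ Ideal.span {s} ⊔ maximalIdeal R ^ 2) ∧
  ∀ l ∈ maximalIdeal R, s * l ∈ maximalIdeal R ^ 3 → l ∈ maximalIdeal R ^ 2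

/-- The normal form of a double point whose quadratic relation is a square. -/
def Data (h₀ h₁ h₂ h₃ x y z : R) : Prop :=
  maximalIdeal R = Ideal.span {x, y, z} ∧ ∃ g ∈ maximalIdeal R ^ 2,
    z ^ 2 = g * z + h₀ * x ^ 3 + h₁ * (x ^ 2 * y) + h₂ * (x * y ^ 2) + h₃ * y ^ 3

variable (R) in
/-- The shape which persists along singular centres. -/
def IsD : Prop := ∃ x y z h₀ h₁ h₂ : R, Data h₀ h₁ h₂ 0 x y z ∧ IsUnit h₂

theorem Data.swap {h₀ h₁ h₂ h₃ : R} (h : Data h₀ h₁ h₂ h₃ x y z) : Data h₃ h₂ h₁ h₀ y x z := by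
  obtain ⟨hm, g, hg, he⟩ := h
  exact ⟨hm.trans (span_swap x y z), g, hg, by rw [he]; ring⟩

theorem QuadPt.exists_data (hR : QuadPt R) (hN : ¬ IsN R) :
    ∃ x y z h₀ h₁ h₂ h₃ : R, Data h₀ h₁ h₂ h₃ x y z := by
  simp only [IsN, not_forall] at hN
  obtain ⟨z, hz, hz2, hn⟩ := hN
  obtain ⟨x, y, hm⟩ := hR.exists_gen hz hn
  obtain ⟨g, hg, h₀, h₁, h₂, h₃, he⟩ := exists_cubic hm hz2
  exact ⟨x, y, z, h₀, h₁, h₂, h₃, hm, g, hg, he⟩

end Groth.Agent.DoublePt
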