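import Groth.Agent.DoublePt.StateN
import Mathlib.Algebra.MvPolynomial.PDeriv
import Mathlib.RingTheory.IntegralClosure.IntegrallyClosed

/-!
# Singular centres over a double point whose quadratic relation is a square
-/

set_option autoImplicit false
set_option linter.style.haveILetI false
set_option linter.unusedSectionVars false
set_option maxHeartbeats 800000

universe u

open IsLocalRing MvPolynomial

namespace Groth.Agent.DoublePt

theorem Data.shift {R : Type u} [CommRing R] [IsLocalRing R] {h₀ h₁ h₂ h₃ x y z : R} (h : Data h₀ h₁ h₂ h₃ x y z)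
    (a : R) : Data (h₀ + h₁ * a + h₂ * a ^ 2 + h₃ * a ^ 3) (h₁ + 2 * h₂ * a + 3 * h₃ * a ^ 2) (h₂ + 3 * h₃ * a) h₃
      x (y - a * x) z := by
  obtain ⟨hm, g, hg, he⟩ := h
  refine ⟨le_antisymm (hm.le.trans (Ideal.span_le.2 ?_)) (Ideal.span_le.2 ?_), g, hg, by rw [he]; ring⟩
  · rintro t (rfl | rfl | rfl)
    · exact Ideal.subset_span (Set.mem_insert _ _)
    · exact Submodule.mem_span_triple.2 ⟨a, 1, 0, by simp only [smul_eq_mul]; ring⟩
    · exact Ideal.subset_span (Set.mem_insert_of_mem _ (Set.mem_insert_of_mem _ rfl))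
  · rintro t (rfl | rfl | rfl)
    · exact mem₁ hm
    · exact sub_mem (mem₂ hm) (Ideal.mul_mem_left _ _ (mem₁ hm))
    · exact mem₃ hm

theorem one_notMem_sq_of_derivation {κ : Type u} [Field κ] {p : Ideal (MvPolynomial (Fin 2) κ)} (hp : p ≠ ⊤) :
    (X 1 : MvPolynomial (Fin 2) κ) ∉ p ^ 2 := by
  intro h
  have key : ∀ t ∈ p ^ 2, pderiv 1 t ∈ p := by
    intro t ht
    rw [pow_two] at ht
    induction ht using Submodule.mul_induction_on' with
    | mem_mul_mem a ha b hb =>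
      rw [pderiv_mul]
      exact add_mem (Ideal.mul_mem_left _ _ hb) (Ideal.mul_mem_right _ _ ha)
    | add a _ b _ ha hb => rw [map_add]; exact add_mem ha hb
  exact hp ((Ideal.eq_top_iff_one _).2 (by simpa using key _ h))

variable {A B : Type u} [CommRing A] [IsLocalRing A] [CommRing B] [IsLocalRing B] {i : A →+* B} [IsDomain B]
  {x y z : A} {v w : B} {h₀ h₁ h₂ h₃ : A}

theorem Frame.data_eq (hF : Frame i x y z v w) (hS : Step i) (hd : Data h₀ h₁ h₂ h₃ x y z) :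
    ∃ γ : B, w ^ 2 = i x * (γ * w + (i h₀ + i h₁ * v + i h₂ * v ^ 2 + i h₃ * v ^ 3)) := by
  obtain ⟨-, g, hg, he⟩ := hd
  have h1 : i g ∈ Ideal.span {i x} ^ 2 := by
    refine Ideal.pow_right_mono ?_ 2 (Ideal.map_pow i (maximalIdeal A) 2 ▸ Ideal.mem_map_of_mem i hg)
    exact Ideal.map_le_iff_le_comap.2 fun t ht => Ideal.mem_span_singleton.2 (hF.dvd ht)
  rw [Ideal.span_singleton_pow, Ideal.mem_span_singleton] at h1
  obtain ⟨γ, hγ⟩ := h1
  refine ⟨γ, mul_left_cancel₀ (pow_ne_zero 2 (hF.ne' hS)) ?_⟩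
  have h2 := congrArg i he
  simp only [map_add, map_mul, map_pow, hγ, ← hF.hv, ← hF.hw] at h2
  linear_combination h2

theorem Frame.mem_w (hF : Frame i x y z v w) (hS : Step i) (hd : Data h₀ h₁ h₂ h₃ x y z) :
    w ∈ maximalIdeal B := by
  obtain ⟨γ, hγ⟩ := hF.data_eq hS hd
  exact (maximalIdeal.isMaximal B).isPrime.mem_of_pow_mem 2 (hγ ▸ Ideal.mul_mem_right _ _ (hF.mem_x hS))

theorem dvd_of_sq_eq [IsIntegrallyClosed B] {X w p q : B} (hX : X ≠ 0) (h : w ^ 2 = X * p * w + X ^ 2 * q) : X ∣ w := by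
  let K := FractionRing B
  letI : Field K := FractionRing.field B
  let a : B →+* K := algebraMap B K
  have hX' : a X ≠ 0 := fun e => hX (IsFractionRing.injective B K (e.trans (map_zero _).symm))
  have hint : IsIntegral B (a w / a X) := by
    refine ⟨Polynomial.X ^ 2 - (Polynomial.C p * Polynomial.X + Polynomial.C q),
      Polynomial.monic_X_pow_sub ((Polynomial.degree_linear_le).trans_lt (by decide)), ?_⟩
    simp only [Polynomial.eval₂_sub, Polynomial.eval₂_add, Polynomial.eval₂_mul, Polynomial.eval₂_X_pow,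
      Polynomial.eval₂_C, Polynomial.eval₂_X]
    have h1 := congrArg a h
    simp only [map_add, map_mul, map_pow] at h1
    field_simp
    linear_combination h1
  obtain ⟨c, hc⟩ := IsIntegrallyClosed.isIntegral_iff.1 hint
  refine ⟨c, IsFractionRing.injective B K ?_⟩
  rw [map_mul, hc, mul_div_cancel₀ _ hX']

/-- A singular centre over a point in normal form which is again of this kind: a double root. -/
theorem Frame.exists_root [IsIntegrallyClosed B] (hF : Frame i x y z v w) (hS : Step i) (hB : QuadPt B)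
    (hd : Data h₀ h₁ h₂ h₃ x y z) (hN : ¬ IsN B) :
    ¬ (h₀ ∈ maximalIdeal A ∧ h₁ ∈ maximalIdeal A ∧ h₂ ∈ maximalIdeal A ∧ h₃ ∈ maximalIdeal A) ∧
    ∃ a : A, v - i a ∈ maximalIdeal B ∧ h₀ + h₁ * a + h₂ * a ^ 2 + h₃ * a ^ 3 ∈ maximalIdeal A ∧
      h₁ + 2 * h₂ * a + 3 * h₃ * a ^ 2 ∈ maximalIdeal A := by
  classical
  obtain ⟨γ, hγ⟩ := hF.data_eq hS hd
  have hw := hF.mem_w hS hd
  haveI := hF.isPrime_ctr hS
  have hX1 : red A (X 1) ∈ ctr i v w := by rw [hF.mem_ctr hS, ev_X1]; exact hw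
  have hne : ¬ (h₀ ∈ maximalIdeal A ∧ h₁ ∈ maximalIdeal A ∧ h₂ ∈ maximalIdeal A ∧ h₃ ∈ maximalIdeal A) := by
    rintro ⟨m0, m1, m2, m3⟩
    obtain ⟨d₀, e0⟩ := hF.dvd m0
    obtain ⟨d₁, e1⟩ := hF.dvd m1
    obtain ⟨d₂, e2⟩ := hF.dvd m2
    obtain ⟨d₃, e3⟩ := hF.dvd m3
    have hdvd := dvd_of_sq_eq (X := i x) (w := w) (p := γ) (q := d₀ + d₁ * v + d₂ * v ^ 2 + d₃ * v ^ 3) (hF.ne' hS)
      (by rw [hγ, e0, e1, e2, e3]; ring)
    obtain ⟨hmax, hsq⟩ := hF.centre hS hB (X 1) (by rw [ev_X1]; exact hdvd)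
    exact one_notMem_sq_of_derivation hmax.ne_top (by simpa [red] using hsq)
  refine ⟨hne, ?_⟩
  obtain ⟨hmax, -⟩ := hF.centre hS hB (X 1 ^ 2) (by rw [map_pow, ev_X1, hγ]; exact dvd_mul_right _ _)
  let κ := ResidueField A
  let ψ : MvPolynomial (Fin 2) κ →ₐ[κ] Polynomial κ := aeval ![Polynomial.X, 0]
  let emb : Polynomial κ →ₐ[κ] MvPolynomial (Fin 2) κ := Polynomial.aeval (X 0)
  have hψe : ∀ t, ψ (emb t) = t := fun t => by
    show ψ (Polynomial.aeval (X 0) t) = t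
    rw [← Polynomial.aeval_algHom_apply, show ψ (X 0) = Polynomial.X by simp [ψ], Polynomial.aeval_X_left_apply]
  have heψ : ∀ P, P - emb (ψ P) ∈ Ideal.span {(X 1 : MvPolynomial (Fin 2) κ)} := by
    intro P
    induction P using MvPolynomial.induction_on with
    | C c => simp [emb, ψ]
    | add p q hp hq => rw [map_add, map_add, add_sub_add_comm]; exact add_mem hp hq
    | mul_X p j hp =>
      fin_cases j
      · rw [show (⟨0, by omega⟩ : Fin 2) = 0 from rfl, map_mul, map_mul,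
          show emb (ψ (X 0)) = X 0 by simp [ψ, emb], ← sub_mul]
        exact Ideal.mul_mem_right _ _ hp
      · rw [show (⟨1, by omega⟩ : Fin 2) = 1 from rfl, map_mul, map_mul, show emb (ψ (X 1)) = 0 by simp [ψ, emb],
          mul_zero, sub_zero]
        exact Ideal.mul_mem_left _ _ (Ideal.mem_span_singleton_self _)
  have hX1' : Ideal.span {(X 1 : MvPolynomial (Fin 2) κ)} ≤ ctr i v w :=
    (Ideal.span_singleton_le_iff_mem _).2 (by simpa [red] using hX1)
  have hiff : ∀ t : Polynomial κ, t ∈ (ctr i v w).map ψ.toRingHom ↔ emb t ∈ ctr i v w := by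
    intro t
    refine ⟨fun h => ?_, fun h => hψe t ▸ Ideal.mem_map_of_mem ψ.toRingHom h⟩
    obtain ⟨P, hP, rfl⟩ := (Ideal.mem_map_iff_of_surjective ψ.toRingHom (fun s => ⟨emb s, hψe s⟩)).1 h
    have h1 := sub_mem hP (hX1' (heψ P))
    rwa [sub_sub_cancel] at h1
  obtain ⟨f, hf⟩ := IsPrincipalIdealRing.principal ((ctr i v w).map ψ.toRingHom)
  have hmemf : ∀ t : Polynomial κ, f ∣ t ↔ emb t ∈ ctr i v w := fun t => by
    rw [← hiff, hf, ← Ideal.mem_span_singleton]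
  obtain ⟨ft, hft⟩ := Polynomial.map_surjective (residue A) residue_surjective f
  let lift : Polynomial A →+* MvPolynomial (Fin 2) A := Polynomial.eval₂RingHom C (X 0)
  have hred : ∀ t : Polynomial A, red A (lift t) = emb (t.map (residue A)) := by
    intro t
    refine RingHom.congr_fun (?_ : (red A).comp lift = (emb : Polynomial κ →+* _).comp (Polynomial.mapRingHom (residue A))) t
    refine Polynomial.ringHom_ext (fun r => ?_) ?_
    · simp [lift, emb, red]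
    · simp [lift, emb, red]
  have hev : ∀ t : Polynomial A, ev i v w (lift t) = t.eval₂ i v := by
    intro t
    refine RingHom.congr_fun (?_ : (ev i v w).comp lift = Polynomial.eval₂RingHom i v) t
    refine Polynomial.ringHom_ext (fun r => ?_) ?_ <;> simp [lift]
  have hgen : ctr i v w = Ideal.span {red A (lift ft), red A (X 1)} := by
    refine le_antisymm (fun P hP => ?_) (Ideal.span_le.2 (Set.insert_subset ?_ (Set.singleton_subset_iff.2 hX1)))
    · obtain ⟨d, hd'⟩ := (hmemf (ψ P)).2 ((hiff _).1 (Ideal.mem_map_of_mem ψ.toRingHom hP))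
      obtain ⟨e, he⟩ := Ideal.mem_span_singleton'.1 (heψ P)
      rw [hred, hft]
      exact Ideal.mem_span_pair.2 ⟨emb d, e, by
        rw [show red A (X 1) = X 1 by simp [red], ← map_mul, mul_comm d, ← hd', he, add_sub_cancel]⟩
    · show red A (lift ft) ∈ ctr i v w
      rw [hred, hft]
      exact (hmemf f).1 dvd_rfl
  have hm := hF.max_le hS hgen
  rw [ev_X1, hev] at hm
  let ct : Polynomial A := Polynomial.C h₀ + Polynomial.C h₁ * Polynomial.X + Polynomial.C h₂ * Polynomial.X ^ 2 +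
    Polynomial.C h₃ * Polynomial.X ^ 3
  let cb := ct.map (residue A)
  have hct : ct.eval₂ i v = i h₀ + i h₁ * v + i h₂ * v ^ 2 + i h₃ * v ^ 3 := by simp [ct]
  have hcv : i h₀ + i h₁ * v + i h₂ * v ^ 2 + i h₃ * v ^ 3 ∈ maximalIdeal B := by
    by_contra hu
    have hu2 : IsUnit (γ * w + (i h₀ + i h₁ * v + i h₂ * v ^ 2 + i h₃ * v ^ 3)) := by
      refine notMem_maximalIdeal.1 fun h => hu ?_
      have h1 := sub_mem h (Ideal.mul_mem_left _ γ hw)
      rwa [add_sub_cancel_left] at h1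
    obtain ⟨e, he⟩ := hu2.exists_left_inv
    refine hB.not_mem_sq hm ?_
    rw [show i x = e * w ^ 2 by rw [hγ, mul_left_comm, he, mul_one]]
    exact Ideal.mul_mem_left _ _ (Ideal.pow_mem_pow hw 2)
  have hfc : f ∣ cb := by
    rw [hmemf, ← hred, hF.mem_ctr hS, hev, hct]
    exact hcv
  have hcb : cb ≠ 0 := by
    intro h0
    refine hne ⟨?_, ?_, ?_, ?_⟩ <;> rw [← residue_eq_zero_iff]
    · simpa [cb, ct, Polynomial.coeff_X, Polynomial.coeff_C] using congrArg (fun p => Polynomial.coeff p 0) h0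
    · simpa [cb, ct, Polynomial.coeff_X, Polynomial.coeff_C] using congrArg (fun p => Polynomial.coeff p 1) h0
    · simpa [cb, ct, Polynomial.coeff_X, Polynomial.coeff_C] using congrArg (fun p => Polynomial.coeff p 2) h0
    · simpa [cb, ct, Polynomial.coeff_X, Polynomial.coeff_C] using congrArg (fun p => Polynomial.coeff p 3) h0
  obtain ⟨u, hu⟩ := hfc
  have hfu : f ∣ u := by
    by_contra hnd
    obtain ⟨ut, hut⟩ := Polynomial.map_surjective (residue A) residue_surjective u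
    have hU : IsUnit (ut.eval₂ i v) := by
      refine notMem_maximalIdeal.1 fun h => hnd ?_
      rw [hmemf, ← hut, ← hred, hF.mem_ctr hS, hev]
      exact h
    obtain ⟨c', hc'⟩ := hF.ker_red (P := lift (ct - ft * ut)) (by
      rw [hred, Polynomial.map_sub, Polynomial.map_mul, hft, hut]
      show emb (cb - f * u) = 0
      rw [hu, sub_self, map_zero])
    rw [hev, Polynomial.eval₂_sub, Polynomial.eval₂_mul, hct] at hc'
    refine hN fun t ht ht2 => ?_
    obtain ⟨α, β, δ, rfl⟩ := exists_comb hm ht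
    obtain ⟨r, hr⟩ := hB.uniq _ _ _ hm ![α ^ 2, 2 * α * β, 2 * α * δ, β ^ 2, 2 * β * δ, δ ^ 2]
      ![c', ut.eval₂ i v, γ, 0, 0, -1] (by rw [quad_sq]; exact ht2) (by
        convert zero_mem (maximalIdeal B ^ 3) using 1
        simp only [quad, Fin.isValue, Matrix.cons_val]
        linear_combination -hγ - i x * hc')
      ⟨5, fun h => (mem_maximalIdeal _).1 h isUnit_one.neg⟩
    have hP := (maximalIdeal.isMaximal B).isPrime
    have hβ : β ∈ maximalIdeal B := hP.mem_of_pow_mem 2 (by simpa using hr 3)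
    have hrm : r ∈ maximalIdeal B := by
      refine (Ideal.mul_unit_mem_iff_mem _ hU).1 ?_
      have h1 := sub_mem (Ideal.mul_mem_left _ (2 * α) hβ) (show 2 * α * β - r * ut.eval₂ i v ∈ maximalIdeal B from hr 1)
      rwa [sub_sub_cancel] at h1
    have key : ∀ e k : B, e - r * k ∈ maximalIdeal B → e ∈ maximalIdeal B := fun e k he => by
      have h1 := add_mem he (Ideal.mul_mem_right k _ hrm)
      rwa [sub_add_cancel] at h1
    have hα : α ∈ maximalIdeal B := hP.mem_of_pow_mem 2 (key _ _ (hr 0))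
    have hδ : δ ∈ maximalIdeal B := hP.mem_of_pow_mem 2 (key _ _ (hr 5))
    rw [pow_two]
    exact add_mem (add_mem (Ideal.mul_mem_mul hα (mem₁ hm)) (Ideal.mul_mem_mul hβ (mem₂ hm)))
      (Ideal.mul_mem_mul hδ (mem₃ hm))
  obtain ⟨u', rfl⟩ := hfu
  have hu0 : u' ≠ 0 := fun e => hcb (by rw [hu, e, mul_zero, mul_zero])
  have hf0 : f ≠ 0 := fun e => hcb (by rw [hu, e, zero_mul])
  have hfu0 : ¬ IsUnit f := fun h => hmax.ne_top (Ideal.eq_top_of_isUnit_mem _ ((hmemf f).1 dvd_rfl) (h.map emb))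
  have hdeg : f.natDegree = 1 := by
    have hc3 : cb.natDegree ≤ 3 := by
      refine le_trans Polynomial.natDegree_map_le ?_
      simp only [ct]
      compute_degree
    rw [hu, Polynomial.natDegree_mul hf0 (mul_ne_zero hf0 hu0), Polynomial.natDegree_mul hf0 hu0] at hc3
    have h0 : f.natDegree ≠ 0 := fun h => hfu0 (Polynomial.isUnit_iff.2 ⟨f.coeff 0,
      (isUnit_iff_ne_zero).2 (fun e => hf0 (by rw [Polynomial.eq_C_of_natDegree_eq_zero h, e, map_zero])),
      (Polynomial.eq_C_of_natDegree_eq_zero h).symm⟩)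
    omega
  obtain ⟨r, hr⟩ := Polynomial.exists_root_of_degree_eq_one
    (show f.degree = 1 by rw [Polynomial.degree_eq_natDegree hf0, hdeg]; rfl)
  obtain ⟨a, rfl⟩ := residue_surjective r
  refine ⟨a, ?_, ?_, ?_⟩
  · rw [← ev_X0 i v w, ← ev_C i v w a, ← map_sub, ← hF.mem_ctr hS,
      show red A (X 0 - C a) = emb (Polynomial.X - Polynomial.C (residue A a)) by simp [red, emb], ← hmemf]
    obtain ⟨d, hd'⟩ := Polynomial.dvd_iff_isRoot.2 hr
    have hd0 : d ≠ 0 := fun e => hf0 (by rw [hd', e, mul_zero])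
    have hdu : IsUnit d := by
      have h1 := congrArg Polynomial.natDegree hd'
      rw [hdeg, Polynomial.natDegree_mul (Polynomial.X_sub_C_ne_zero _) hd0, Polynomial.natDegree_X_sub_C] at h1
      rw [Polynomial.eq_C_of_natDegree_eq_zero (p := d) (by omega)] at hd0 ⊢
      exact Polynomial.isUnit_C.2 (isUnit_iff_ne_zero.2 fun e => hd0 (by rw [e, map_zero]))
    exact hd' ▸ (hdu.mul_right_dvd).2 dvd_rfl
  · rw [← residue_eq_zero_iff]
    have h1 : cb.eval (residue A a) = 0 := by rw [hu, Polynomial.eval_mul, hr.eq_zero, zero_mul]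
    simpa [cb, ct] using h1
  · rw [← residue_eq_zero_iff]
    have h1 : cb.derivative.eval (residue A a) = 0 := by
      rw [hu]
      simp [hr.eq_zero]
    simp [cb, ct] at h1
    simp only [map_add, map_mul, map_pow, map_ofNat]
    linear_combination h1

/-- The normal form on the next ring. -/
theorem Frame.next_data (hF : Frame i x y z v w) (hS : Step i) (hB : QuadPt B) (hd : Data h₀ h₁ h₂ h₃ x y z)
    (hv : v ∈ maximalIdeal B) (m0 : h₀ ∈ maximalIdeal A) (m1 : h₁ ∈ maximalIdeal A) (hN : ¬ IsN B) :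
    (∀ r : B, ∃ r₀ : A, r - i r₀ ∈ maximalIdeal B) ∧
    ∃ e₀ e₁ z₁ : B, Data e₀ e₁ (i h₂ + i h₃ * v) 0 (i x) v z₁ ∧ (h₀ = 0 → e₀ = 0) := by
  classical
  obtain ⟨hm, hsurj⟩ := hF.of_rational hS (a := 0) (b := 0) (by simpa using hv) (by simpa using hF.mem_w hS hd)
  simp only [map_zero, sub_zero] at hm
  refine ⟨hsurj, ?_⟩
  obtain ⟨γ, hγ⟩ := hF.data_eq hS hd
  obtain ⟨d₀, e0, hd0'⟩ : ∃ d₀, i h₀ = i x * d₀ ∧ (h₀ = 0 → d₀ = 0) := by
    by_cases h : h₀ = 0
    · exact ⟨0, by rw [h, map_zero, mul_zero], fun _ => rfl⟩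
    · obtain ⟨d₀, e⟩ := hF.dvd m0
      exact ⟨d₀, e, fun h' => absurd h' h⟩
  obtain ⟨d₁, e1⟩ := hF.dvd m1
  have hrel : quad ![-d₀, 0, -γ, 0, 0, 1] (i x) v w ∈ maximalIdeal B ^ 3 := by
    have : quad ![-d₀, 0, -γ, 0, 0, 1] (i x) v w =
        d₁ * (i x * (i x * v)) + (i h₂ + i h₃ * v) * (i x * (v * v)) := by
      simp only [quad, Fin.isValue, Matrix.cons_val]
      linear_combination hγ + i x * e0 + i x * v * e1
    rw [this, show (3 : ℕ) = 1 + (1 + 1) from rfl, pow_add, pow_add, pow_one]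
    exact add_mem (Ideal.mul_mem_left _ _ (Ideal.mul_mem_mul (mem₁ hm) (Ideal.mul_mem_mul (mem₁ hm) hv)))
      (Ideal.mul_mem_left _ _ (Ideal.mul_mem_mul (mem₁ hm) (Ideal.mul_mem_mul hv hv)))
  simp only [IsN, not_forall] at hN
  obtain ⟨t, ht, ht2, htn⟩ := hN
  obtain ⟨α, β, δ, rfl⟩ := exists_comb hm ht
  obtain ⟨r, hr⟩ := hB.uniq _ _ _ hm ![α ^ 2, 2 * α * β, 2 * α * δ, β ^ 2, 2 * β * δ, δ ^ 2] _
    (by rw [quad_sq]; exact ht2) hrel ⟨5, fun h => (mem_maximalIdeal _).1 h isUnit_one⟩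
  have hP := (maximalIdeal.isMaximal B).isPrime
  let π := residue B
  have hz : ∀ {b : B}, b ∈ maximalIdeal B ↔ π b = 0 := (residue_eq_zero_iff _).symm
  have r0 : π α ^ 2 + π r * π d₀ = 0 := by
    have h1 : π (α ^ 2 - r * -d₀) = 0 := hz.1 (hr 0)
    rw [map_sub, map_mul, map_neg, map_pow] at h1
    linear_combination h1
  have r2 : 2 * π α * π δ + π r * π γ = 0 := by
    have h1 : π (2 * α * δ - r * -γ) = 0 := hz.1 (hr 2)
    rw [map_sub, map_mul, map_mul, map_mul, map_neg, map_ofNat] at h1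
    linear_combination h1
  have r5 : π δ ^ 2 - π r = 0 := by
    have h1 : π (δ ^ 2 - r * 1) = 0 := hz.1 (hr 5)
    rwa [map_sub, mul_one, map_pow] at h1
  have hδ : IsUnit δ := by
    refine notMem_maximalIdeal.1 fun hδ => htn ?_
    have hβ : β ∈ maximalIdeal B := hP.mem_of_pow_mem 2 (by simpa using hr 3)
    have hr0 : π r = 0 := by rw [hz] at hδ; linear_combination -r5 + π δ * hδ
    have hα : α ∈ maximalIdeal B := hz.2 (pow_eq_zero_iff two_ne_zero |>.1 (by linear_combination r0 - π d₀ * hr0))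
    rw [pow_two]
    exact add_mem (add_mem (Ideal.mul_mem_mul hα (mem₁ hm)) (Ideal.mul_mem_mul hβ (mem₂ hm)))
      (Ideal.mul_mem_mul hδ (mem₃ hm))
  obtain ⟨u, hu⟩ := hδ.exists_left_inv
  have hu' : π u * π δ = 1 := by rw [← map_mul, hu, map_one]
  have hru : π u ^ 2 * π r = 1 := by linear_combination (π u * π δ + 1) * hu' - π u ^ 2 * r5
  obtain ⟨α₁, hE, hf, hzero⟩ : ∃ α₁ : B, 2 * α₁ + γ ∈ maximalIdeal B ∧ α₁ ^ 2 + d₀ ∈ maximalIdeal B ∧
      (h₀ = 0 → α₁ = 0) := by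
    have hE0 : π (2 * (u * α) + γ) = 0 := by
      rw [map_add, map_mul, map_mul, map_ofNat]
      linear_combination π u ^ 2 * r2 - 2 * π α * π u * hu' - π γ * hru
    have hF0 : π ((u * α) ^ 2 + d₀) = 0 := by
      rw [map_add, map_pow, map_mul]
      linear_combination π u ^ 2 * r0 - π d₀ * hru
    by_cases h : h₀ = 0
    · refine ⟨0, ?_, by rw [hd0' h]; simp, fun _ => rfl⟩
      rw [map_add, hd0' h, map_zero, add_zero, map_pow, pow_eq_zero_iff two_ne_zero] at hF0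
      rw [map_add, map_mul, hF0, mul_zero, zero_add] at hE0
      rw [mul_zero, zero_add]
      exact hz.2 hE0
    · exact ⟨u * α, hz.2 hE0, hz.2 hF0, fun h' => absurd h' h⟩
  let E := 2 * α₁ + γ
  let z₁ := w + α₁ * i x
  have hm₁ : maximalIdeal B = Ideal.span {i x, v, z₁} := by
    refine le_antisymm (hm.le.trans (Ideal.span_le.2 ?_)) (Ideal.span_le.2 ?_)
    · rintro b (rfl | rfl | rfl)
      · exact Ideal.subset_span (Set.mem_insert _ _)
      · exact Ideal.subset_span (Set.mem_insert_of_mem _ (Set.mem_insert _ _))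
      · exact Submodule.mem_span_triple.2 ⟨-α₁, 0, 1, by simp only [z₁, smul_eq_mul]; ring⟩
    · rintro b (rfl | rfl | rfl)
      · exact mem₁ hm
      · exact hv
      · exact add_mem (mem₃ hm) (Ideal.mul_mem_left _ _ (mem₁ hm))
  obtain ⟨p, q, s, hpqs, hzero'⟩ : ∃ p q s : B, α₁ ^ 2 + d₀ - E * α₁ = p * i x + q * v + s * z₁ ∧ (h₀ = 0 → p = 0) := by
    by_cases h : h₀ = 0
    · exact ⟨0, 0, 0, by rw [hzero h, hd0' h]; ring, fun _ => rfl⟩
    · obtain ⟨p, q, s, e⟩ := exists_comb hm₁ (sub_mem hf (Ideal.mul_mem_right α₁ _ hE))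
      exact ⟨p, q, s, e, fun h' => absurd h' h⟩
  refine ⟨p, q + d₁, z₁, ⟨hm₁, E * i x + s * i x ^ 2, ?_, ?_⟩, hzero'⟩
  · refine add_mem ?_ (Ideal.mul_mem_left _ _ (Ideal.pow_mem_pow (mem₁ hm) 2))
    rw [pow_two]
    exact Ideal.mul_mem_mul hE (mem₁ hm)
  · simp only [z₁, E] at hpqs ⊢
    linear_combination hγ + i x ^ 2 * hpqs + i x * e0 + i x * v * e1

theorem Data.cases (hS : Step i) (hd : Data h₀ h₁ h₂ h₃ x y z) :
    (∀ t ∈ maximalIdeal A, i x ∣ i t) ∨
      ((∀ t ∈ maximalIdeal A, i y ∣ i t) ∧ ∀ v : B, i y * v = i x → v ∈ maximalIdeal B) := by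
  by_cases hx : ∀ t ∈ maximalIdeal A, i x ∣ i t
  · exact Or.inl hx
  have hxy : ∀ {s : A}, (∀ t ∈ maximalIdeal A, i s ∣ i t) → ∀ v : B, i s * v = i x → v ∈ maximalIdeal B := by
    intro s hs v hv
    refine (mem_maximalIdeal v).2 fun hu => hx fun t ht => ?_
    rw [← hv]
    exact (hu.mul_right_dvd).2 (hs t ht)
  by_cases hy : ∀ t ∈ maximalIdeal A, i y ∣ i t
  · exact Or.inr ⟨hy, hxy hy⟩
  exfalso
  obtain ⟨hm, g, hg, he⟩ := hd
  rcases hS.cases hm with h | h | h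
  · exact hx h
  · exact hy h
  obtain ⟨p, hp⟩ := h x (mem₁ hm)
  obtain ⟨q, hq⟩ := h y (mem₂ hm)
  have hg1 : i g ∈ Ideal.span {i z} ^ 2 := by
    refine Ideal.pow_right_mono ?_ 2 (Ideal.map_pow i (maximalIdeal A) 2 ▸ Ideal.mem_map_of_mem i hg)
    exact Ideal.map_le_iff_le_comap.2 fun t ht => Ideal.mem_span_singleton.2 (h t ht)
  rw [Ideal.span_singleton_pow, Ideal.mem_span_singleton] at hg1
  obtain ⟨γ, hγ⟩ := hg1
  have hz0 : i z ≠ 0 := by
    obtain ⟨s, hs, hs0, -⟩ := hS.princ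
    intro e
    obtain ⟨c, hc⟩ := h s hs
    exact hs0 (hS.inj (by rw [hc, e, zero_mul, map_zero]))
  have h1 : i z ^ 2 * 1 = i z ^ 2 * (i z * (γ + i h₀ * p ^ 3 + i h₁ * (p ^ 2 * q) + i h₂ * (p * q ^ 2) + i h₃ * q ^ 3)) := by
    have h2 := congrArg i he
    simp only [map_add, map_mul, map_pow, hγ, hp, hq] at h2
    linear_combination h2
  exact (mem_maximalIdeal _).1 (hS.dom z (mem₃ hm))
    (IsUnit.of_mul_eq_one _ (mul_left_cancel₀ (pow_ne_zero 2 hz0) h1).symm)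

theorem Frame.data_shift (hF : Frame i x y z v w) (a : A) : Frame i x (y - a * x) z (v - i a) w := by
  simpa using hF.shift a 0

/-- From the state of a square the next ring has no `y³` term. -/
theorem Step.next_S [IsIntegrallyClosed B] (hS : Step i) (hA : QuadPt A) (hB : QuadPt B) (hd : Data h₀ h₁ h₂ h₃ x y z)
    (hN : ¬ IsN B) : ∃ x' y' z' e₀ e₁ e₂ : B, Data e₀ e₁ e₂ 0 x' y' z' := by
  have key : ∀ {x y h₀ h₁ h₂ h₃ : A}, Data h₀ h₁ h₂ h₃ x y z → (∀ t ∈ maximalIdeal A, i x ∣ i t) →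
      ∃ x' y' z' e₀ e₁ e₂ : B, Data e₀ e₁ e₂ 0 x' y' z' := by
    intro x y h₀ h₁ h₂ h₃ hd hdiv
    obtain ⟨v, w, hF⟩ := Frame.exists_of_dvd hd.1 (hA.ne₁ hd.1) hdiv
    obtain ⟨-, a, ha, m0, m1⟩ := hF.exists_root hS hB hd hN
    obtain ⟨-, e₀, e₁, z₁, hd', -⟩ := (hF.data_shift a).next_data hS hB (hd.shift a) ha m0 m1 hN
    exact ⟨_, _, _, _, _, _, hd'⟩
  rcases hd.cases hS with h | ⟨h, -⟩
  · exact key hd h
  · exact key hd.swap h

/-- Without a `y³` term: either the persistent shape or, one step later, no `x³` term as well. -/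
theorem Step.next_zero [IsIntegrallyClosed B] (hS : Step i) (hA : QuadPt A) (hB : QuadPt B)
    (hd : Data h₀ h₁ h₂ 0 x y z) (hN : ¬ IsN B) :
    IsD A ∨ ∃ x' y' z' e₁ e₂ : B, Data 0 e₁ e₂ 0 x' y' z' := by
  by_cases h2 : IsUnit h₂
  · exact Or.inl ⟨_, _, _, _, _, _, hd, h2⟩
  refine Or.inr ?_
  have m2 := (mem_maximalIdeal _).2 h2
  rcases hd.cases hS with h | ⟨h, hv⟩
  · exfalso
    obtain ⟨v, w, hF⟩ := Frame.exists_of_dvd hd.1 (hA.ne₁ hd.1) h
    obtain ⟨hne, a, -, m0, m1⟩ := hF.exists_root hS hB hd hN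
    simp only [zero_mul, mul_zero, add_zero] at m0 m1
    have m1' : h₁ ∈ maximalIdeal A := by
      have h3 := sub_mem m1 (Ideal.mul_mem_right a _ (Ideal.mul_mem_left _ 2 m2))
      rwa [add_sub_cancel_right] at h3
    have m0' : h₀ ∈ maximalIdeal A := by
      have h3 := sub_mem m0 (add_mem (Ideal.mul_mem_right a _ m1') (Ideal.mul_mem_right (a ^ 2) _ m2))
      rwa [show h₀ + h₁ * a + h₂ * a ^ 2 - (h₁ * a + h₂ * a ^ 2) = h₀ by ring] at h3
    exact hne ⟨m0', m1', m2, zero_mem _⟩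
  · have hsw := hd.swap
    obtain ⟨v, w, hF⟩ := Frame.exists_of_dvd hsw.1 (hA.ne₁ hsw.1) h
    obtain ⟨-, e₀, e₁, z₁, hd', hz⟩ := hF.next_data hS hB hsw (hv v hF.hv) (zero_mem _) m2 hN
    rw [hz rfl] at hd'
    exact ⟨_, _, _, _, _, hd'⟩

/-- Without `x³` and `y³` terms the shape is persistent. -/
theorem Step.isD_of_zero [IsIntegrallyClosed B] (hS : Step i) (hA : QuadPt A) (hB : QuadPt B)
    (hd : Data 0 h₁ h₂ 0 x y z) (hN : ¬ IsN B) : IsD A := by
  by_cases h2 : IsUnit h₂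
  · exact ⟨_, _, _, _, _, _, hd, h2⟩
  by_cases h1 : IsUnit h₁
  · exact ⟨_, _, _, _, _, _, hd.swap, h1⟩
  exfalso
  have key : ∀ {x y h₁ h₂ : A}, Data 0 h₁ h₂ 0 x y z → ¬ IsUnit h₁ → ¬ IsUnit h₂ →
      (∀ t ∈ maximalIdeal A, i x ∣ i t) → False := fun {x y h₁ h₂} hd h1 h2 hdiv => by
    obtain ⟨v, w, hF⟩ := Frame.exists_of_dvd hd.1 (hA.ne₁ hd.1) hdiv
    exact (hF.exists_root hS hB hd hN).1 ⟨zero_mem _, (mem_maximalIdeal _).2 h1, (mem_maximalIdeal _).2 h2, zero_mem _⟩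
  rcases hd.cases hS with h | ⟨h, -⟩
  · exact key hd h1 h2 h
  · exact key hd.swap h2 h1 h

/-- One step in the persistent shape. -/
theorem Step.next_D [IsIntegrallyClosed B] (hS : Step i) (hA : QuadPt A) (hB : QuadPt B)
    (hd : Data h₀ h₁ h₂ 0 x y z) (h2 : IsUnit h₂) (hN : ¬ IsN B) :
    (∀ t ∈ maximalIdeal A, i x ∣ i t) ∧ (∀ r : B, ∃ r₀ : A, r - i r₀ ∈ maximalIdeal B) ∧
      ∃ y' z' e₀ e₁ e₂ : B, Data e₀ e₁ e₂ 0 (i x) y' z' ∧ IsUnit e₂ := by
  rcases hd.cases hS with h | ⟨h, hv⟩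
  · refine ⟨h, ?_⟩
    obtain ⟨v, w, hF⟩ := Frame.exists_of_dvd hd.1 (hA.ne₁ hd.1) h
    obtain ⟨-, a, ha, m0, m1⟩ := hF.exists_root hS hB hd hN
    obtain ⟨hsurj, e₀, e₁, z₁, hd', -⟩ := (hF.data_shift a).next_data hS hB (hd.shift a) ha m0 m1 hN
    refine ⟨hsurj, _, _, _, _, _, hd', ?_⟩
    simpa using h2.map i
  · exfalso
    have hsw := hd.swap
    obtain ⟨v, w, hF⟩ := Frame.exists_of_dvd hsw.1 (hA.ne₁ hsw.1) h
    obtain ⟨-, a, ha, -, m1⟩ := hF.exists_root hS hB hsw hN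
    have hva : a ∈ maximalIdeal A := Step.mem_of_map_mem (i := i) (by
      have h3 := sub_mem (hv v hF.hv) ha
      rwa [sub_sub_cancel] at h3)
    refine (mem_maximalIdeal _).1 ?_ h2
    have h3 := sub_mem m1 (add_mem (Ideal.mul_mem_left _ (2 * h₁) hva)
      (Ideal.mul_mem_left _ (3 * h₀) (Ideal.pow_mem_of_mem _ hva 2 two_pos)))
    rwa [show h₂ + 2 * h₁ * a + 3 * h₀ * a ^ 2 - (2 * h₁ * a + 3 * h₀ * a ^ 2) = h₂ by ring] at h3

end Groth.Agent.DoublePt
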