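import Groth.Agent.DoublePt.Arc
import Groth.Agent.DoublePt.StateS

/-!
# There is no infinite chain of singular double points over an analytically normal one
-/

set_option autoImplicit false
set_option linter.style.haveILetI false
set_option linter.unusedSectionVars false
set_option maxHeartbeats 800000

universe u

open IsLocalRing

namespace Groth.Agent.DoublePt

variable {K : Type u} [Field K] {R : ℕ → Subring K} [∀ n, IsLocalRing (R n)] (hmono : Monotone R)

/-- The inclusion of a ring of the chain in the next one. -/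
abbrev inc (n : ℕ) : R n →+* R (n + 1) := Subring.inclusion (hmono (Nat.le_succ n))

/-- A chain of singular double points, each a local ring on the blow-up of the previous one. -/
structure Chain : Prop where
  step : ∀ n, Step (inc hmono n)
  pt : ∀ n, QuadPt (R n)
  ic : ∀ n, IsIntegrallyClosed (R n)

variable {hmono}

/-- The rings of the chain have the completions of normal surface germs. -/
def HasCpl (R : ℕ → Subring K) [∀ n, IsLocalRing (R n)] : Prop :=
  ∀ n, ∃ (S : Type u) (_ : CommRing S) (_ : IsDomain S) (_ : IsLocalRing S) (_ : IsNoetherianRing S)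
    (_ : IsIntegrallyClosed S) (_ : IsAdicComplete (maximalIdeal S) S) (ι : R n →+* S),
      ringKrullDim S = 2 ∧ Cpl (R := fun k => R (n + k)) ι

include hmono in
/-- Residues of the later rings come from the first one when all the centres are rational. -/
theorem exists_residue (hC : Chain hmono) (n : ℕ)
    (hsurj : ∀ k, ∀ r : R (n + k + 1), ∃ r₀ : R (n + k), r - inc hmono (n + k) r₀ ∈ maximalIdeal (R (n + k + 1))) :
    ∀ k (r : R (n + k)), ∃ r₀ : R n, r - Subring.inclusion (hmono (Nat.le_add_right n k)) r₀ ∈ maximalIdeal (R (n + k))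
  | 0, r => ⟨r, by convert zero_mem (maximalIdeal (R (n + 0))); exact sub_self r⟩
  | k + 1, r => by
    obtain ⟨r₁, h₁⟩ := hsurj k r
    obtain ⟨r₀, h₀⟩ := exists_residue hC n hsurj k r₁
    refine ⟨r₀, ?_⟩
    have h2 := add_mem h₁ ((hC.step (n + k)).dom _ h₀)
    have e : r - Subring.inclusion (hmono (Nat.le_add_right n (k + 1))) r₀ = (r - inc hmono (n + k) r₁) +
        inc hmono (n + k) (r₁ - Subring.inclusion (hmono (Nat.le_add_right n k)) r₀) := by
      refine Subtype.ext ?_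
      show (r : K) - r₀ = ((r : K) - r₁) + ((r₁ : K) - r₀)
      ring
    exact e.symm ▸ h2

include hmono in
/-- No parameter can go on generating along rational centres. -/
theorem false_of_inv (hC : Chain hmono) (hcpl : HasCpl R) {n : ℕ} (s : R n) (Inv : ∀ m, R m → Prop) (h0 : Inv n s)
    (hgen : ∀ m t, Inv m t → ∃ y z : R m, maximalIdeal (R m) = Ideal.span {t, y, z})
    (hnext : ∀ m t, n ≤ m → Inv m t → Inv (m + 1) (inc hmono m t) ∧
      (∀ q ∈ maximalIdeal (R m), inc hmono m t ∣ inc hmono m q) ∧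
      ∀ r : R (m + 1), ∃ r₀ : R m, r - inc hmono m r₀ ∈ maximalIdeal (R (m + 1))) : False := by
  classical
  let x : K := s
  have hxR : ∀ k, x ∈ R (n + k) := fun k => hmono (Nat.le_add_right n k) s.2
  have hinv : ∀ k, Inv (n + k) ⟨x, hxR k⟩ := by
    intro k
    induction k with
    | zero => exact h0
    | succ k ih => exact (hnext _ _ (Nat.le_add_right n k) ih).1
  have hdiv : ∀ k, ∀ q ∈ maximalIdeal (R (n + k)), inc hmono (n + k) ⟨x, hxR k⟩ ∣ inc hmono (n + k) q :=
    fun k => (hnext _ _ (Nat.le_add_right n k) (hinv k)).2.1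
  have hres := exists_residue hC n fun k => (hnext _ _ (Nat.le_add_right n k) (hinv k)).2.2
  let P : ℕ → K × K → Prop := fun k p => ∃ (hv : p.1 ∈ R (n + k)) (hw : p.2 ∈ R (n + k)),
    maximalIdeal (R (n + k)) = Ideal.span {⟨x, hxR k⟩, ⟨p.1, hv⟩, ⟨p.2, hw⟩}
  have hstep : ∀ k p, P k p → ∃ (a b : R n) (p' : K × K), P (k + 1) p' ∧
      p.1 = x * (p'.1 + a) ∧ p.2 = x * (p'.2 + b) := by
    rintro k ⟨v, w⟩ ⟨hv, hw, hm⟩
    have hS := hC.step (n + k)
    have hne := (hC.pt (n + k)).ne₁ hm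
    obtain ⟨v', w', hF⟩ := Frame.exists_of_dvd hm hne (hdiv k)
    obtain ⟨a, ha⟩ := hres (k + 1) v'
    obtain ⟨b, hb⟩ := hres (k + 1) w'
    let up : R n →+* R (n + k) := Subring.inclusion (hmono (Nat.le_add_right n k))
    obtain ⟨hmB, -⟩ := hF.of_rational hS (a := up a) (b := up b) (by exact ha) (by exact hb)
    refine ⟨a, b, ((v' : K) - a, (w' : K) - b), ⟨(v' - inc hmono _ (up a)).2, (w' - inc hmono _ (up b)).2, hmB⟩, ?_, ?_⟩
    · have := congrArg Subtype.val hF.hv
      show v = x * (((v' : K) - a) + a)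
      rw [sub_add_cancel]
      exact this.symm
    · have := congrArg Subtype.val hF.hw
      show w = x * (((w' : K) - b) + b)
      rw [sub_add_cancel]
      exact this.symm
  choose fa fb fp hP hrv hrw using hstep
  obtain ⟨y, z, hm⟩ := hgen _ _ (hinv 0)
  let seq : ∀ k, { p : K × K // P k p } := fun k => Nat.rec ⟨((y : K), (z : K)), ⟨y.2, z.2, hm⟩⟩
    (fun k q => ⟨fp k q.1 q.2, hP k q.1 q.2⟩) k
  obtain ⟨S, _, _, _, _, _, _, ι, hdim, hι⟩ := hcpl n
  have hmono' : Monotone fun k => R (n + k) := fun a b h => hmono (Nat.add_le_add_left h n)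
  refine Arc.false (R := fun k => R (n + k)) hmono' (x := x) (v := fun k => (seq k).1.1) (w := fun k => (seq k).1.2)
    (a := fun k => (fa k _ (seq k).2 : K)) (b := fun k => (fb k _ (seq k).2 : K)) ⟨?_, ?_, ?_, ?_, ?_, ?_, ?_⟩ hι hdim
  · exact fun e => (hC.pt (n + 0)).ne₁ hm (Subtype.ext e)
  · exact fun k => (fa k _ _).2
  · exact fun k => (fb k _ _).2
  · exact fun k => ⟨hxR k, (seq k).2.choose, (seq k).2.choose_spec.choose, (seq k).2.choose_spec.choose_spec⟩
  · exact fun k => hrv k _ _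
  · exact fun k => hrw k _ _
  · exact fun k => (hC.pt (n + k)).two

include hmono in
/-- There is no infinite chain. -/
theorem Chain.false (hC : Chain hmono) (hcpl : HasCpl R) : False := by
  haveI := hC.ic
  by_cases hN : ∃ n, IsN (R n)
  · obtain ⟨n, hn⟩ := hN
    obtain ⟨s, hs⟩ := (hC.step n).next_N (hC.pt n) (hC.pt (n + 1)) hn
    exact false_of_inv hC hcpl s (fun _ t => IsN' t) hs (fun _ _ h => h.1)
      fun m t _ h => (hC.step m).next_N' (hC.pt m) (hC.pt (m + 1)) h
  push Not at hN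
  obtain ⟨_, _, _, _, _, _, _, hd⟩ := (hC.pt 0).exists_data (hN 0)
  obtain ⟨_, _, _, _, _, _, hd₁⟩ := (hC.step 0).next_S (hC.pt 0) (hC.pt 1) hd (hN 1)
  obtain ⟨n, hD⟩ : ∃ n, IsD (R n) := by
    rcases (hC.step 1).next_zero (hC.pt 1) (hC.pt 2) hd₁ (hN 2) with h | ⟨_, _, _, _, _, hd₂⟩
    · exact ⟨1, h⟩
    · exact ⟨2, (hC.step 2).isD_of_zero (hC.pt 2) (hC.pt 3) hd₂ (hN 3)⟩
  obtain ⟨x, y, z, h₀, h₁, h₂, hd, hu⟩ := hD
  refine false_of_inv hC hcpl x
    (fun m t => ∃ (y z h₀ h₁ h₂ : R m), Data h₀ h₁ h₂ 0 t y z ∧ IsUnit h₂) ⟨y, z, h₀, h₁, h₂, hd, hu⟩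
    (fun _ _ ⟨y, z, _, _, _, h, _⟩ => ⟨y, z, h.1⟩) fun m t _ ⟨_, _, _, _, _, h, hu⟩ => ?_
  obtain ⟨hdiv, hsurj, hnext⟩ := (hC.step m).next_D (hC.pt m) (hC.pt (m + 1)) h hu (hN (m + 1))
  exact ⟨hnext, hdiv, hsurj⟩

end Groth.Agent.DoublePt
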