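import Groth.Agent.DoublePt.Basic
import Mathlib.RingTheory.Jacobson.Ring
import Mathlib.RingTheory.KrullDimension.Polynomial
import Mathlib.RingTheory.KrullDimension.Field
import Mathlib.RingTheory.Polynomial.Basic
import Mathlib.RingTheory.Polynomial.UniqueFactorization
import Mathlib.RingTheory.UniqueFactorizationDomain.Ideal
import Mathlib.RingTheory.Ideal.Height
import Mathlib.RingTheory.AdjoinRoot

/-!
# One step along a chain of double points: the centre in a chart
-/

set_option autoImplicit false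
set_option linter.style.haveILetI false
set_option linter.unusedSectionVars false
set_option maxHeartbeats 800000

universe u

open IsLocalRing MvPolynomial

namespace Groth.Agent.DoublePt

/-- A prime of the plane is principal, or maximal and generated by two elements. -/
theorem exists_pair_of_prime {κ : Type u} [Field κ] (p : Ideal (MvPolynomial (Fin 2) κ)) [p.IsPrime] :
    (∃ h, p = Ideal.span {h}) ∨ p.IsMaximal ∧ ∃ f g, p = Ideal.span {f, g} := by
  classical
  by_cases hb : p = ⊥
  · exact Or.inl ⟨0, by rw [hb, Ideal.span_singleton_eq_bot.2 rfl]⟩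
  by_cases hp1 : ∃ h, p = Ideal.span {h}
  · exact Or.inl hp1
  obtain ⟨h, hh, hhp⟩ := Ideal.IsPrime.exists_mem_prime_of_ne_bot ‹p.IsPrime› hb
  have hlt : Ideal.span {h} < p :=
    lt_of_le_of_ne ((Ideal.span_singleton_le_iff_mem _).2 hh) fun e => hp1 ⟨h, e.symm⟩
  haveI hhp' : (Ideal.span {h}).IsPrime := (Ideal.span_singleton_prime hhp.ne_zero).2 hhp
  have hmax : p.IsMaximal := by
    obtain ⟨M, hM, hle⟩ := Ideal.exists_le_maximal p Ideal.IsPrime.ne_top'
    by_contra hn
    have hlt' : p < M := lt_of_le_of_ne hle fun e => hn (e ▸ hM)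
    haveI := hM.isPrime
    have h1 := Order.add_one_le_of_lt (Ideal.height_strict_mono_of_isPrime hlt)
    have h2 := Order.add_one_le_of_lt (Ideal.height_strict_mono_of_isPrime hlt')
    have h3 : M.height ≤ 2 := by
      refine WithBot.coe_le_coe.1 ((Ideal.height_le_ringKrullDim_of_ne_top hM.ne_top).trans ?_)
      rw [MvPolynomial.ringKrullDim_of_isNoetherianRing, ringKrullDim_eq_zero_of_field, zero_add, Nat.card_fin]
      rfl
    have h0 : (1 : ℕ∞) ≤ (Ideal.span {h}).height := by
      refine Order.one_le_iff_pos.2 (pos_iff_ne_zero.2 fun h0 => hhp.ne_zero ?_)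
      rw [Ideal.height_eq_zero_iff_eq_bot, Ideal.span_singleton_eq_bot] at h0
      exact h0
    exact absurd ((add_le_add (add_le_add h0 le_rfl) le_rfl).trans ((add_le_add h1 le_rfl).trans (h2.trans h3)))
      (by decide)
  refine Or.inr ⟨hmax, ?_⟩
  letI : Field (MvPolynomial (Fin 2) κ ⧸ p) := Ideal.Quotient.field p
  haveI : Module.Finite κ (MvPolynomial (Fin 2) κ ⧸ p) := finite_of_finite_type_of_isJacobsonRing κ _
  let a : MvPolynomial (Fin 2) κ ⧸ p := Ideal.Quotient.mk p (X 0)
  have ha : IsIntegral κ a := IsIntegral.of_finite κ a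
  haveI : Fact (Irreducible (minpoly κ a)) := ⟨minpoly.irreducible ha⟩
  let f : MvPolynomial (Fin 2) κ := Polynomial.aeval (X 0) (minpoly κ a)
  have hf : f ∈ p := by
    rw [← Ideal.Quotient.eq_zero_iff_mem]
    show Ideal.Quotient.mkₐ κ p (Polynomial.aeval (X 0) (minpoly κ a)) = 0
    rw [← Polynomial.aeval_algHom_apply]
    exact minpoly.aeval κ a
  let L := AdjoinRoot (minpoly κ a)
  let φ : MvPolynomial (Fin 2) κ →ₐ[κ] Polynomial L :=
    aeval ![Polynomial.C (AdjoinRoot.root (minpoly κ a)), Polynomial.X]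
  have hker : RingHom.ker φ.toRingHom ≤ Ideal.span {f} := by
    let q := Ideal.Quotient.mkₐ κ (Ideal.span {f})
    have hroot : Polynomial.eval₂ (algebraMap κ (MvPolynomial (Fin 2) κ ⧸ Ideal.span {f})) (q (X 0)) (minpoly κ a) = 0 := by
      rw [← Polynomial.aeval_def, Polynomial.aeval_algHom_apply]
      exact Ideal.Quotient.eq_zero_iff_mem.2 (Ideal.mem_span_singleton_self f)
    let ψ := Polynomial.eval₂RingHom (AdjoinRoot.lift _ (q (X 0)) hroot) (q (X 1))
    have hψ : ψ.comp φ.toRingHom = q.toRingHom := by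
      refine MvPolynomial.ringHom_ext (fun r => ?_) (fun i => ?_)
      · show ψ (φ (C r)) = q (C r)
        rw [show (C r : MvPolynomial (Fin 2) κ) = algebraMap κ _ r from rfl, AlgHom.commutes, AlgHom.commutes,
          Polynomial.algebraMap_apply, Polynomial.coe_eval₂RingHom, Polynomial.eval₂_C, AdjoinRoot.algebraMap_eq, AdjoinRoot.lift_of]
      · fin_cases i <;> simp [ψ, φ, q]
    intro t ht
    refine Ideal.Quotient.eq_zero_iff_mem.1 ?_
    have := RingHom.congr_fun hψ t
    rw [RingHom.comp_apply, RingHom.mem_ker.1 ht, map_zero] at this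
    exact this.symm
  have hsurj : Function.Surjective φ := by
    intro t
    induction t using Polynomial.induction_on' with
    | add s t hs ht =>
      obtain ⟨s', rfl⟩ := hs
      obtain ⟨t', rfl⟩ := ht
      exact ⟨s' + t', map_add _ _ _⟩
    | monomial n l =>
      obtain ⟨l, rfl⟩ := AdjoinRoot.mk_surjective l
      refine ⟨Polynomial.aeval (X 0) l * X 1 ^ n, ?_⟩
      rw [map_mul, map_pow, ← Polynomial.aeval_algHom_apply, ← Polynomial.C_mul_X_pow_eq_monomial]
      have h0 : φ (X 0) = IsScalarTower.toAlgHom κ L (Polynomial L) (AdjoinRoot.root (minpoly κ a)) := by simp [φ]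
      have h1 : φ (X 1) = Polynomial.X := by simp [φ]
      rw [h0, h1, Polynomial.aeval_algHom_apply, AdjoinRoot.aeval_eq]
      rfl
  obtain ⟨g, hg⟩ := IsPrincipalIdealRing.principal (p.map φ.toRingHom)
  obtain ⟨g', hg'p, hg'⟩ := (Ideal.mem_map_iff_of_surjective φ.toRingHom hsurj).1
    (hg ▸ Submodule.mem_span_singleton_self g)
  refine ⟨f, g', le_antisymm (fun t ht => ?_) (Ideal.span_le.2 (Set.insert_subset hf (Set.singleton_subset_iff.2 hg'p)))⟩
  obtain ⟨l, hl⟩ := Submodule.mem_span_singleton.1 (hg ▸ Ideal.mem_map_of_mem φ.toRingHom ht :)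
  obtain ⟨l', rfl⟩ := hsurj l
  have h1 : t - l' * g' ∈ Ideal.span {f} := hker (by
    rw [RingHom.mem_ker, map_sub, map_mul, hg', ← hl, smul_eq_mul]
    exact sub_self _)
  rw [show t = (t - l' * g') + l' * g' by ring]
  exact add_mem (Ideal.span_mono (Set.singleton_subset_iff.2 (Set.mem_insert _ _)) h1)
    (Ideal.mul_mem_left _ _ (Ideal.subset_span (Set.mem_insert_of_mem _ rfl)))

variable {A B : Type u} [CommRing A] [IsLocalRing A] [CommRing B] [IsLocalRing B] (i : A →+* B)

/-- Evaluation on a chart. -/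
def ev (v w : B) : MvPolynomial (Fin 2) A →+* B := MvPolynomial.eval₂Hom i ![v, w]

@[simp] theorem ev_C (v w : B) (a : A) : ev i v w (C a) = i a := eval₂Hom_C _ _ _

@[simp] theorem ev_X0 (v w : B) : ev i v w (X 0) = v := by simp [ev]

@[simp] theorem ev_X1 (v w : B) : ev i v w (X 1) = w := by simp [ev]

variable (A) in
/-- Reduction of polynomials to the residue field. -/
noncomputable def red : MvPolynomial (Fin 2) A →+* MvPolynomial (Fin 2) (ResidueField A) := MvPolynomial.map (residue A)

/-- The coordinates of a chart. -/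
structure Frame (x y z : A) (v w : B) : Prop where
  gen : maximalIdeal A = Ideal.span {x, y, z}
  ne : x ≠ 0
  hv : i x * v = i y
  hw : i x * w = i z

/-- The next ring is a local ring of a chart. -/
structure Step : Prop where
  inj : Function.Injective i
  dom : ∀ t ∈ maximalIdeal A, i t ∈ maximalIdeal B
  princ : ∃ s ∈ maximalIdeal A, s ≠ 0 ∧ ∀ t ∈ maximalIdeal A, i s ∣ i t
  chart : ∀ (x y z : A) (v w : B), Frame i x y z v w →
    ∀ b : B, ∃ P Q : MvPolynomial (Fin 2) A, IsUnit (ev i v w Q) ∧ b * ev i v w Q = ev i v w P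

variable {i} {x y z : A} {v w : B}

theorem Frame.dvd (hF : Frame i x y z v w) {t : A} (ht : t ∈ maximalIdeal A) : i x ∣ i t := by
  obtain ⟨α, β, γ, rfl⟩ := exists_comb hF.gen ht
  exact ⟨i α + i β * v + i γ * w, by
    simp only [map_add, map_mul]
    linear_combination -i β * hF.hv - i γ * hF.hw⟩

theorem Frame.shift (hF : Frame i x y z v w) (a b : A) :
    Frame i x (y - a * x) (z - b * x) (v - i a) (w - i b) := by
  refine ⟨?_, hF.ne, ?_, ?_⟩
  · refine le_antisymm (hF.gen.le.trans (Ideal.span_le.2 ?_)) (Ideal.span_le.2 ?_)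
    · rintro t (rfl | rfl | rfl)
      · exact Ideal.subset_span (Set.mem_insert _ _)
      · exact Submodule.mem_span_triple.2 ⟨a, 1, 0, by simp only [smul_eq_mul]; ring⟩
      · exact Submodule.mem_span_triple.2 ⟨b, 0, 1, by simp only [smul_eq_mul]; ring⟩
    · rintro t (rfl | rfl | rfl)
      · exact mem₁ hF.gen
      · exact sub_mem (mem₂ hF.gen) (Ideal.mul_mem_left _ _ (mem₁ hF.gen))
      · exact sub_mem (mem₃ hF.gen) (Ideal.mul_mem_left _ _ (mem₁ hF.gen))
  · rw [map_sub, map_mul, mul_sub, hF.hv]; ring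
  · rw [map_sub, map_mul, mul_sub, hF.hw]; ring

theorem Frame.ker_red (hF : Frame i x y z v w) {P : MvPolynomial (Fin 2) A} (hP : red A P = 0) :
    i x ∣ ev i v w P := by
  have h1 : P ∈ RingHom.ker (red A) := hP
  rw [red, MvPolynomial.ker_map, ker_residue] at h1
  rw [Ideal.map] at h1
  clear hP
  induction h1 using Submodule.span_induction with
  | mem t ht =>
    obtain ⟨a, ha, rfl⟩ := ht
    rw [ev_C]
    exact hF.dvd ha
  | zero => simp
  | add s t _ _ hs ht => rw [map_add]; exact dvd_add hs ht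
  | smul r t _ ht => rw [smul_eq_mul, map_mul]; exact dvd_mul_of_dvd_right ht _

variable (i) in
/-- The centre on the exceptional plane. -/
noncomputable def ctr (v w : B) : Ideal (MvPolynomial (Fin 2) (ResidueField A)) :=
  ((maximalIdeal B).comap (ev i v w)).map (red A)

theorem red_surjective : Function.Surjective (red A) := MvPolynomial.map_surjective _ residue_surjective

theorem Frame.mem_x (hF : Frame i x y z v w) (hS : Step i) : i x ∈ maximalIdeal B := hS.dom _ (mem₁ hF.gen)

theorem Frame.ker_le (hF : Frame i x y z v w) (hS : Step i) :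
    RingHom.ker (red A) ≤ (maximalIdeal B).comap (ev i v w) := fun P hP => by
  obtain ⟨c, hc⟩ := hF.ker_red hP
  rw [Ideal.mem_comap, hc]
  exact Ideal.mul_mem_right _ _ (hF.mem_x hS)

theorem Frame.isPrime_ctr (hF : Frame i x y z v w) (hS : Step i) : (ctr i v w).IsPrime :=
  Ideal.map_isPrime_of_surjective red_surjective (hF.ker_le hS)

theorem Frame.mem_ctr (hF : Frame i x y z v w) (hS : Step i) {P : MvPolynomial (Fin 2) A} :
    red A P ∈ ctr i v w ↔ ev i v w P ∈ maximalIdeal B := by
  refine ⟨fun h => ?_, fun h => Ideal.mem_map_of_mem _ h⟩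
  obtain ⟨P', hP', he⟩ := (Ideal.mem_map_iff_of_surjective _ red_surjective).1 h
  have h1 : P - P' ∈ RingHom.ker (red A) := by rw [RingHom.mem_ker, map_sub, he, sub_self]
  have h2 := add_mem (hF.ker_le hS h1) hP'
  rwa [sub_add_cancel] at h2

/-- Generators of the maximal ideal from generators of the centre. -/
theorem Frame.max_le (hF : Frame i x y z v w) (hS : Step i) {f g : MvPolynomial (Fin 2) A}
    (hp : ctr i v w = Ideal.span {red A f, red A g}) :
    maximalIdeal B = Ideal.span {i x, ev i v w f, ev i v w g} := by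
  refine le_antisymm (fun b hb => ?_) (Ideal.span_le.2 ?_)
  · obtain ⟨P, Q, hQ, he⟩ := hS.chart x y z v w hF b
    have hP : red A P ∈ ctr i v w := (hF.mem_ctr hS).2 (he ▸ Ideal.mul_mem_right _ _ hb)
    rw [hp, Ideal.mem_span_pair] at hP
    obtain ⟨c, d, hcd⟩ := hP
    obtain ⟨c, rfl⟩ := red_surjective c
    obtain ⟨d, rfl⟩ := red_surjective d
    obtain ⟨e, hce⟩ := hF.ker_red (P := P - (c * f + d * g)) (by rw [map_sub, map_add, map_mul, map_mul, hcd, sub_self])
    refine (Ideal.mul_unit_mem_iff_mem _ hQ).1 ?_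
    rw [he, Submodule.mem_span_triple]
    refine ⟨e, ev i v w c, ev i v w d, ?_⟩
    simp only [map_sub, map_add, map_mul] at hce
    simp only [smul_eq_mul]
    linear_combination -hce
  · rintro b (rfl | rfl | rfl)
    · exact hF.mem_x hS
    · exact (hF.mem_ctr hS).1 (hp ▸ Ideal.subset_span (Set.mem_insert _ _))
    · exact (hF.mem_ctr hS).1 (hp ▸ Ideal.subset_span (Set.mem_insert_of_mem _ rfl))

/-- A centre carrying a double point is maximal, and the relation lies in its square. -/
theorem Frame.centre (hF : Frame i x y z v w) (hS : Step i) (hB : QuadPt B) (q : MvPolynomial (Fin 2) A)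
    (hq : i x ∣ ev i v w q) : (ctr i v w).IsMaximal ∧ red A q ∈ ctr i v w ^ 2 := by
  haveI := hF.isPrime_ctr hS
  rcases exists_pair_of_prime (ctr i v w) with ⟨h, hh⟩ | ⟨hmax, f, g, hfg⟩
  · obtain ⟨h, rfl⟩ := red_surjective h
    exact absurd ((hF.max_le hS (f := h) (g := h) (by rw [hh, Set.pair_eq_singleton])).trans
      (congrArg (fun s : Set B => Ideal.span (insert (i x) s)) (Set.pair_eq_singleton _))) (hB.two _ _)
  refine ⟨hmax, ?_⟩
  obtain ⟨f, rfl⟩ := red_surjective f
  obtain ⟨g, rfl⟩ := red_surjective g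
  have hqm : red A q ∈ ctr i v w := by
    obtain ⟨c, hc⟩ := hq
    rw [hF.mem_ctr hS, hc]
    exact Ideal.mul_mem_right _ _ (hF.mem_x hS)
  rw [hfg, Ideal.mem_span_pair] at hqm
  obtain ⟨α, β, hαβ⟩ := hqm
  obtain ⟨α, rfl⟩ := red_surjective α
  obtain ⟨β, rfl⟩ := red_surjective β
  have key : ∀ α β f g : MvPolynomial (Fin 2) A, ctr i v w = Ideal.span {red A f, red A g} →
      red A α * red A f + red A β * red A g = red A q → red A α ∈ ctr i v w := by
    intro α β f g hfg hαβ
    by_contra hα
    obtain ⟨u, hu⟩ := (notMem_maximalIdeal.1 (fun h => hα ((hF.mem_ctr hS).2 h))).exists_left_inv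
    obtain ⟨c, hc⟩ := hq
    obtain ⟨e, he⟩ := hF.ker_red (P := α * f + β * g - q) (by rw [map_sub, map_add, map_mul, map_mul, hαβ, sub_self])
    simp only [map_sub, map_add, map_mul] at he
    refine hB.two (i x) (ev i v w g) (le_antisymm ?_ (Ideal.span_le.2 ?_))
    · rw [hF.max_le hS hfg, Ideal.span_le]
      rintro b (rfl | rfl | rfl)
      · exact Ideal.subset_span (Set.mem_insert _ _)
      · exact Ideal.mem_span_pair.2 ⟨u * (c + e), -(u * ev i v w β), by
          linear_combination -u * hc - u * he + ev i v w f * hu⟩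
      · exact Ideal.subset_span (Set.mem_insert_of_mem _ rfl)
    · rintro b (rfl | rfl)
      · exact hF.mem_x hS
      · exact (hF.mem_ctr hS).1 (hfg ▸ Ideal.subset_span (Set.mem_insert_of_mem _ rfl))
  have hα := key α β f g hfg hαβ
  have hβ := key β α g f (hfg.trans (by rw [Set.pair_comm])) (by rw [add_comm]; exact hαβ)
  rw [← hαβ, pow_two]
  exact add_mem (Ideal.mul_mem_mul hα (hfg ▸ Ideal.subset_span (Set.mem_insert _ _)))
    (Ideal.mul_mem_mul hβ (hfg ▸ Ideal.subset_span (Set.mem_insert_of_mem _ rfl)))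

theorem sub_C_eval_mem (a b : A) (P : MvPolynomial (Fin 2) A) :
    P - C (eval ![a, b] P) ∈ Ideal.span {X 0 - C a, X 1 - C b} := by
  induction P using MvPolynomial.induction_on with
  | C c => simp
  | add p q hp hq => rw [map_add, C_add, add_sub_add_comm]; exact add_mem hp hq
  | mul_X p j hp =>
    rw [map_mul, eval_X, C_mul, show p * X j - C (eval ![a, b] p) * C (![a, b] j) =
      (p - C (eval ![a, b] p)) * X j + C (eval ![a, b] p) * (X j - C (![a, b] j)) by ring]
    refine add_mem (Ideal.mul_mem_right _ _ hp) (Ideal.mul_mem_left _ _ ?_)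
    fin_cases j
    · exact Ideal.subset_span (Set.mem_insert _ _)
    · exact Ideal.subset_span (Set.mem_insert_of_mem _ rfl)

/-- A rational centre: coordinates and residue field of the next ring. -/
theorem Frame.of_rational (hF : Frame i x y z v w) (hS : Step i) {a b : A}
    (ha : v - i a ∈ maximalIdeal B) (hb : w - i b ∈ maximalIdeal B) :
    maximalIdeal B = Ideal.span {i x, v - i a, w - i b} ∧ ∀ r : B, ∃ r₀ : A, r - i r₀ ∈ maximalIdeal B := by
  set J := Ideal.span ({i x, v - i a, w - i b} : Set B) with hJ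
  have hJm : J ≤ maximalIdeal B := Ideal.span_le.2 (by
    rintro t (rfl | rfl | rfl)
    · exact hF.mem_x hS
    · exact ha
    · exact hb)
  have hev : ∀ P, ev i v w P - i (eval ![a, b] P) ∈ J := fun P => by
    have h1 := Ideal.mem_map_of_mem (ev i v w) (sub_C_eval_mem a b P)
    rw [Ideal.map_span, Set.image_pair, map_sub, ev_C, map_sub, ev_X0, ev_C, map_sub, ev_X1, ev_C] at h1
    exact Ideal.span_mono (by intro t ht; exact Set.mem_insert_of_mem _ ht) h1
  refine ⟨le_antisymm (fun t ht => ?_) hJm, fun r => ?_⟩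
  · obtain ⟨P, Q, hQ, he⟩ := hS.chart x y z v w hF t
    refine (Ideal.mul_unit_mem_iff_mem _ hQ).1 ?_
    have hP : i (eval ![a, b] P) ∈ maximalIdeal B := by
      have h1 := sub_mem (he ▸ Ideal.mul_mem_right (ev i v w Q) _ ht : ev i v w P ∈ maximalIdeal B) (hJm (hev P))
      rwa [sub_sub_cancel] at h1
    have hPA : eval ![a, b] P ∈ maximalIdeal A := by
      by_contra hu
      exact (mem_maximalIdeal _).1 hP ((notMem_maximalIdeal.1 hu).map i)
    obtain ⟨c, hc⟩ := hF.dvd hPA
    have h3 : i (eval ![a, b] P) ∈ J := hc ▸ Ideal.mul_mem_right _ _ (Ideal.subset_span (Set.mem_insert _ _))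
    rw [he, ← sub_add_cancel (ev i v w P) (i (eval ![a, b] P))]
    exact add_mem (hev P) h3
  · obtain ⟨P, Q, hQ, he⟩ := hS.chart x y z v w hF r
    have hQA : IsUnit (eval ![a, b] Q) := by
      by_contra hu
      have h1 := add_mem (hJm (hev Q)) (hS.dom _ ((mem_maximalIdeal _).2 hu))
      rw [sub_add_cancel] at h1
      exact (mem_maximalIdeal _).1 h1 hQ
    obtain ⟨u, hu⟩ := hQA.exists_left_inv
    refine ⟨u * eval ![a, b] P, (Ideal.mul_unit_mem_iff_mem _ hQ).1 ?_⟩
    have hu' : i u * i (eval ![a, b] Q) = 1 := by rw [← map_mul, hu, map_one]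
    have h1 := sub_mem (hJm (hev P)) (Ideal.mul_mem_left _ (i u * i (eval ![a, b] P)) (hJm (hev Q)))
    convert h1 using 1
    rw [map_mul]
    linear_combination he - i (eval ![a, b] P) * hu'

end Groth.Agent.DoublePt
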