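import Groth.Agent.DoublePt.StateS
import Mathlib.RingTheory.Ideal.MinimalPrime.Noetherian
import Mathlib.RingTheory.PrincipalIdealDomain

/-!
# Only finitely many centres carry double points
-/

set_option autoImplicit false
set_option linter.style.haveILetI false
set_option linter.unusedSectionVars false
set_option maxHeartbeats 800000

universe u

open IsLocalRing MvPolynomial

namespace Groth.Agent.DoublePt

variable {A : Type u} [CommRing A] [IsLocalRing A]

/-- The relation in coordinates moved to the rational point is binary. -/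
def Binary (x y z : A) (a b : A) : Prop :=
  ∃ c : Fin 6 → A, (∃ j, c j ∉ maximalIdeal A) ∧ quad c x (y - a * x) (z - b * x) ∈ maximalIdeal A ^ 3 ∧
    c 0 ∈ maximalIdeal A ∧ c 1 ∈ maximalIdeal A ∧ c 2 ∈ maximalIdeal A

theorem shift_gen {x y z : A} (hm : maximalIdeal A = Ideal.span {x, y, z}) (a b : A) :
    maximalIdeal A = Ideal.span {x, y - a * x, z - b * x} := by
  refine le_antisymm (hm.le.trans (Ideal.span_le.2 ?_)) (Ideal.span_le.2 ?_)
  · rintro t (rfl | rfl | rfl)
    · exact Ideal.subset_span (Set.mem_insert _ _)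
    · exact Submodule.mem_span_triple.2 ⟨a, 1, 0, by simp only [smul_eq_mul]; ring⟩
    · exact Submodule.mem_span_triple.2 ⟨b, 0, 1, by simp only [smul_eq_mul]; ring⟩
  · rintro t (rfl | rfl | rfl)
    · exact mem₁ hm
    · exact sub_mem (mem₂ hm) (Ideal.mul_mem_left _ _ (mem₁ hm))
    · exact sub_mem (mem₃ hm) (Ideal.mul_mem_left _ _ (mem₁ hm))

/-- A binary relation which vanishes twice at a further point is a square. -/
theorem not_isN_of_double (hA : QuadPt A) {x y z : A} (hm : maximalIdeal A = Ideal.span {x, y, z}) {c₃ c₄ c₅ d e : A}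
    (hd : IsUnit d) (h0 : c₃ * d ^ 2 + c₄ * d * e + c₅ * e ^ 2 ∈ maximalIdeal A)
    (h2 : c₄ * d + 2 * c₅ * e ∈ maximalIdeal A) (hq : c₃ * y ^ 2 + c₄ * (y * z) + c₅ * z ^ 2 ∈ maximalIdeal A ^ 3)
    (hne : ¬ (c₃ ∈ maximalIdeal A ∧ c₄ ∈ maximalIdeal A ∧ c₅ ∈ maximalIdeal A)) : ¬ IsN A := by
  intro hN
  obtain ⟨u, hu⟩ := hd.exists_left_inv
  set δ := u * e with hδ
  have e4 : c₄ + 2 * c₅ * δ ∈ maximalIdeal A := by
    have h := Ideal.mul_mem_left _ u h2
    rwa [show u * (c₄ * d + 2 * c₅ * e) = c₄ + 2 * c₅ * δ by rw [hδ]; linear_combination c₄ * hu] at h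
  have e3 : c₃ - c₅ * δ ^ 2 ∈ maximalIdeal A := by
    have h := sub_mem (Ideal.mul_mem_left _ (u ^ 2) h0) (Ideal.mul_mem_left _ δ e4)
    rwa [show u ^ 2 * (c₃ * d ^ 2 + c₄ * d * e + c₅ * e ^ 2) - δ * (c₄ + 2 * c₅ * δ) = c₃ - c₅ * δ ^ 2 by
      rw [hδ]; linear_combination (c₃ * (u * d + 1) + c₄ * (u * e)) * hu] at h
  have hs : c₅ * (z - δ * y) ^ 2 ∈ maximalIdeal A ^ 3 := by
    have h := sub_mem hq (quad_mem hm (c := ![0, 0, 0, c₃ - c₅ * δ ^ 2, c₄ + 2 * c₅ * δ, 0]) (by
      intro j; fin_cases j <;> first | exact e3 | exact e4 | exact zero_mem _))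
    convert h using 1
    simp only [quad, Fin.isValue, Matrix.cons_val]
    ring
  have hc5 : IsUnit c₅ := by
    by_contra hc
    have h5 := (mem_maximalIdeal _).2 hc
    refine hne ⟨?_, ?_, h5⟩
    · have h := add_mem e3 (Ideal.mul_mem_right (δ ^ 2) _ h5)
      rwa [sub_add_cancel] at h
    · have h := sub_mem e4 (Ideal.mul_mem_right δ _ (Ideal.mul_mem_left _ 2 h5))
      rwa [add_sub_cancel_right] at h
  have hz := hN _ (sub_mem (mem₃ hm) (Ideal.mul_mem_left _ _ (mem₂ hm))) ((Ideal.unit_mul_mem_iff_mem _ hc5).1 hs)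
  exact (mem_maximalIdeal _).1 (hA.coef hm (α := 0) (β := -δ) (γ := 1) (by
    rwa [show 0 * x + -δ * y + 1 * z = z - δ * y by ring])).2.2 isUnit_one

/-- There is at most one such point. -/
theorem Binary.unique (hA : QuadPt A) (hN : IsN A) {x y z : A} (hm : maximalIdeal A = Ideal.span {x, y, z})
    {a b a' b' : A} (h : Binary x y z a b) (h' : Binary x y z a' b') :
    a' - a ∈ maximalIdeal A ∧ b' - b ∈ maximalIdeal A := by
  obtain ⟨c, hne, hc, c0, c1, c2⟩ := h
  obtain ⟨c', hne', hc', c0', c1', c2'⟩ := h'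
  set d := a' - a with hd
  set e := b' - b with he
  obtain ⟨r, hr⟩ := hA.uniq _ _ _ (shift_gen hm a b)
    ![c' 0 - c' 1 * d - c' 2 * e + c' 3 * d ^ 2 + c' 4 * d * e + c' 5 * e ^ 2,
      c' 1 - 2 * c' 3 * d - c' 4 * e, c' 2 - c' 4 * d - 2 * c' 5 * e, c' 3, c' 4, c' 5] c (by
    convert hc' using 1
    simp only [quad, hd, he, Fin.isValue, Matrix.cons_val]
    ring) hc hne
  have key : ∀ (t k : A), t - r * k ∈ maximalIdeal A → k ∈ maximalIdeal A → t ∈ maximalIdeal A := fun t k ht hk => by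
    have h := add_mem ht (Ideal.mul_mem_left _ r hk)
    rwa [sub_add_cancel] at h
  have k0 : c' 3 * d ^ 2 + c' 4 * d * e + c' 5 * e ^ 2 ∈ maximalIdeal A := by
    have h := sub_mem (key _ _ (hr 0) c0) (sub_mem (sub_mem c0' (Ideal.mul_mem_right d _ c1')) (Ideal.mul_mem_right e _ c2'))
    convert h using 1
    simp only [Fin.isValue, Matrix.cons_val]
    ring
  have k1 : c' 4 * e + 2 * c' 3 * d ∈ maximalIdeal A := by
    have h := sub_mem c1' (key _ _ (hr 1) c1)
    convert h using 1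
    simp only [Fin.isValue, Matrix.cons_val]
    ring
  have k2 : c' 4 * d + 2 * c' 5 * e ∈ maximalIdeal A := by
    have h := sub_mem c2' (key _ _ (hr 2) c2)
    convert h using 1
    simp only [Fin.isValue, Matrix.cons_val]
    ring
  have hm' := shift_gen hm a' b'
  have hq : c' 3 * (y - a' * x) ^ 2 + c' 4 * ((y - a' * x) * (z - b' * x)) + c' 5 * (z - b' * x) ^ 2 ∈
      maximalIdeal A ^ 3 := by
    have h := sub_mem hc' (quad_mem hm' (c := ![c' 0, c' 1, c' 2, 0, 0, 0]) (by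
      intro j; fin_cases j <;> first | assumption | exact zero_mem _))
    convert h using 1
    simp only [quad, Fin.isValue, Matrix.cons_val]
    ring
  have hne3 : ¬ (c' 3 ∈ maximalIdeal A ∧ c' 4 ∈ maximalIdeal A ∧ c' 5 ∈ maximalIdeal A) := by
    rintro ⟨h3, h4, h5⟩
    obtain ⟨j, hj⟩ := hne'
    fin_cases j <;> exact hj ‹_›
  constructor
  · by_contra hd'
    exact not_isN_of_double hA hm' (notMem_maximalIdeal.1 hd') k0 k2 hq hne3 hN
  · by_contra he'
    refine not_isN_of_double hA (hm'.trans (span_swap' _ _ _)) (c₃ := c' 5) (c₄ := c' 4) (c₅ := c' 3) (d := e) (e := d)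
      (notMem_maximalIdeal.1 he') ?_ k1 ?_ (fun h => hne3 ⟨h.2.2, h.2.1, h.1⟩) hN
    · convert k0 using 1; ring
    · convert hq using 1; ring

variable {B : Type u} [CommRing B] [IsLocalRing B] {i : A →+* B} [IsDomain B]
  {x y z : A} {v w : B} {h₀ h₁ h₂ h₃ : A}

theorem Frame.ctr_eq (hF : Frame i x y z v w) (hS : Step i) {a b : A} (ha : v - i a ∈ maximalIdeal B)
    (hb : w - i b ∈ maximalIdeal B) :
    ctr i v w = Ideal.span {X 0 - C (residue A a), X 1 - C (residue A b)} := by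
  haveI := hF.isPrime_ctr hS
  have m0 : X 0 - C (residue A a) ∈ ctr i v w := by
    rw [show X 0 - C (residue A a) = red A (X 0 - C a) by simp [red], hF.mem_ctr hS]
    simpa using ha
  have m1 : X 1 - C (residue A b) ∈ ctr i v w := by
    rw [show X 1 - C (residue A b) = red A (X 1 - C b) by simp [red], hF.mem_ctr hS]
    simpa using hb
  have hle : Ideal.span {X 0 - C (residue A a), X 1 - C (residue A b)} ≤ ctr i v w :=
    Ideal.span_le.2 (Set.insert_subset m0 (Set.singleton_subset_iff.2 m1))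
  refine le_antisymm (fun P hP => ?_) hle
  have h1 := sub_C_eval_mem' (residue A a) (residue A b) P
  have h2 : C (eval ![residue A a, residue A b] P) ∈ ctr i v w := by
    have h := sub_mem hP (hle h1)
    rwa [sub_sub_cancel] at h
  have h3 : eval ![residue A a, residue A b] P = 0 := by
    by_contra h0
    exact Ideal.IsPrime.ne_top ‹_› (Ideal.eq_top_of_isUnit_mem _ h2 ((IsUnit.mk0 _ h0).map C))
  rwa [h3, map_zero, sub_zero] at h1
where
  sub_C_eval_mem' {k : Type u} [CommRing k] (a b : k) (P : MvPolynomial (Fin 2) k) :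
      P - C (eval ![a, b] P) ∈ Ideal.span {X 0 - C a, X 1 - C b} := by
    induction P using MvPolynomial.induction_on with
    | C c => simp
    | add p q hp hq => rw [map_add, C_add, add_sub_add_comm]; exact add_mem hp hq
    | mul_X p j hp =>
      rw [map_mul, eval_X, C_mul, show p * X j - C (eval ![a, b] p) * C (![a, b] j) =
        (p - C (eval ![a, b] p)) * X j + C (eval ![a, b] p) * (X j - C (![a, b] j)) by ring]
      refine add_mem (Ideal.mul_mem_right _ _ hp) (Ideal.mul_mem_left _ _ ?_)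
      fin_cases j
      · exact Ideal.subset_span (Set.mem_insert _ _)
      · exact Ideal.subset_span (Set.mem_insert_of_mem _ rfl)

/-- The possible centres over a point in the state `IsN`. -/
def ctrsN (x y z : A) : Set (Ideal (MvPolynomial (Fin 2) (ResidueField A))) :=
  {p | ∃ a b, Binary x y z a b ∧ p = Ideal.span {X 0 - C (residue A a), X 1 - C (residue A b)}}

theorem ctrsN_finite (hA : QuadPt A) (hN : IsN A) (hm : maximalIdeal A = Ideal.span {x, y, z}) :
    (ctrsN x y z).Finite := by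
  refine Set.Subsingleton.finite ?_
  rintro p ⟨a, b, h, rfl⟩ q ⟨a', b', h', rfl⟩
  obtain ⟨ha, hb⟩ := h.unique hA hN hm h'
  have ea : residue A a' = residue A a := Ideal.Quotient.eq.2 ha
  have eb : residue A b' = residue A b := Ideal.Quotient.eq.2 hb
  rw [ea, eb]

theorem Frame.mem_ctrsN (hF : Frame i x y z v w) (hS : Step i) (hA : QuadPt A) (hB : QuadPt B) (hN : IsN A) :
    ctr i v w ∈ ctrsN x y z := by
  obtain ⟨a, b, ha, hb⟩ := hF.exists_rational hS hA hB hN
  obtain ⟨hm, -⟩ := hF.of_rational hS ha hb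
  have hF' := hF.shift a b
  obtain ⟨c, hne, hc⟩ := hA.rel _ _ _ hF'.gen
  obtain ⟨h0, h1, h2, -, -⟩ := hF'.mem_low hS hB hm hc hne
  exact ⟨a, b, ⟨c, hne, hc, h0, h1, h2⟩, hF.ctr_eq hS ha hb⟩

/-- The reduced cubic on a chart of the normal form. -/
noncomputable def cubic (h₀ h₁ h₂ h₃ : A) : MvPolynomial (Fin 2) (ResidueField A) :=
  red A (C h₀ + C h₁ * X 0 + C h₂ * X 0 ^ 2 + C h₃ * X 0 ^ 3)

/-- The possible centres over a point in normal form. -/
def ctrsS (h₀ h₁ h₂ h₃ : A) : Set (Ideal (MvPolynomial (Fin 2) (ResidueField A))) :=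
  {p | p.IsPrime ∧ X 1 ∈ p ∧ cubic h₀ h₁ h₂ h₃ ∈ p ∧
    ¬ (h₀ ∈ maximalIdeal A ∧ h₁ ∈ maximalIdeal A ∧ h₂ ∈ maximalIdeal A ∧ h₃ ∈ maximalIdeal A)}

theorem ctrsS_finite : (ctrsS h₀ h₁ h₂ h₃).Finite := by
  classical
  let κ := ResidueField A
  by_cases hne : h₀ ∈ maximalIdeal A ∧ h₁ ∈ maximalIdeal A ∧ h₂ ∈ maximalIdeal A ∧ h₃ ∈ maximalIdeal A
  · convert Set.finite_empty
    ext p
    exact ⟨fun h => h.2.2.2 hne, False.elim⟩
  let ψ : MvPolynomial (Fin 2) κ →ₐ[κ] Polynomial κ := aeval ![Polynomial.X, 0]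
  let emb : Polynomial κ →ₐ[κ] MvPolynomial (Fin 2) κ := Polynomial.aeval (X 0)
  have heψ : ∀ P, P - emb (ψ P) ∈ Ideal.span {(X 1 : MvPolynomial (Fin 2) κ)} := by
    intro P
    induction P using MvPolynomial.induction_on with
    | C c => simp [emb, ψ]
    | add p q hp hq => rw [map_add, map_add, add_sub_add_comm]; exact add_mem hp hq
    | mul_X p j hp =>
      fin_cases j
      · rw [show (⟨0, by omega⟩ : Fin 2) = 0 from rfl, map_mul, map_mul,
          show emb (ψ (X 0)) = X 0 by simp [ψ, emb], ← sub_mul]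
        exact Ideal.mul_mem_right _ _ hp
      · rw [show (⟨1, by omega⟩ : Fin 2) = 1 from rfl, map_mul, map_mul, show emb (ψ (X 1)) = 0 by simp [ψ, emb],
          mul_zero, sub_zero]
        exact Ideal.mul_mem_left _ _ (Ideal.mem_span_singleton_self _)
  let cb : Polynomial κ := ψ (cubic h₀ h₁ h₂ h₃)
  have hcb : cb ≠ 0 := by
    intro h0
    simp only [cb, cubic, red, ψ, map_add, map_mul, map_pow, map_C, map_X, aeval_C, aeval_X, Matrix.cons_val_zero,
      Polynomial.algebraMap_eq] at h0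
    refine hne ⟨?_, ?_, ?_, ?_⟩ <;> rw [← residue_eq_zero_iff]
    · have := congrArg (fun p => Polynomial.coeff p 0) h0
      simp [Polynomial.coeff_X, -residue_eq_zero_iff] at this
      exact this
    · have := congrArg (fun p => Polynomial.coeff p 1) h0
      simp [Polynomial.coeff_X, -residue_eq_zero_iff] at this
      exact this
    · have := congrArg (fun p => Polynomial.coeff p 2) h0
      simp [Polynomial.coeff_X, -residue_eq_zero_iff] at this
      exact this
    · have := congrArg (fun p => Polynomial.coeff p 3) h0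
      simp [Polynomial.coeff_X, -residue_eq_zero_iff] at this
      exact this
  have hfin : {q : Ideal (Polynomial κ) | q.IsPrime ∧ cb ∈ q}.Finite := by
    refine (Ideal.finite_minimalPrimes_of_isNoetherianRing _ (Ideal.span {cb})).subset ?_
    rintro q ⟨hq, hc⟩
    refine ⟨⟨hq, (Ideal.span_singleton_le_iff_mem _).2 hc⟩, fun q' hq' hle => ?_⟩
    haveI := hq'.1
    have hne' : q' ≠ ⊥ := fun e => hcb (by
      have := hq'.2 (Ideal.mem_span_singleton_self cb)
      rwa [e, Ideal.mem_bot] at this)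
    exact ((IsPrime.to_maximal_ideal hne').eq_of_le hq.ne_top hle).ge
  refine Set.Finite.of_finite_image (hfin.subset (Set.image_subset_iff.2 ?_)) ?_ (f := fun p => p.comap emb)
  · rintro p ⟨hp, hX, hc, -⟩
    refine ⟨Ideal.IsPrime.comap _, ?_⟩
    show emb cb ∈ p
    have h := sub_mem hc ((Ideal.span_singleton_le_iff_mem _).2 hX (heψ (cubic h₀ h₁ h₂ h₃)))
    rwa [sub_sub_cancel] at h
  · rintro p ⟨-, hX, -⟩ p' ⟨-, hX', -⟩ he
    ext P
    have h1 := (Ideal.span_singleton_le_iff_mem _).2 hX (heψ P)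
    have h2 := (Ideal.span_singleton_le_iff_mem _).2 hX' (heψ P)
    have h3 : emb (ψ P) ∈ p ↔ emb (ψ P) ∈ p' := by
      show ψ P ∈ Ideal.comap emb p ↔ ψ P ∈ Ideal.comap emb p'
      simp only at he
      rw [he]
    constructor
    · intro h
      have := add_mem h2 (h3.1 (by have := sub_mem h h1; rwa [sub_sub_cancel] at this))
      rwa [sub_add_cancel] at this
    · intro h
      have := add_mem h1 (h3.2 (by have := sub_mem h h2; rwa [sub_sub_cancel] at this))
      rwa [sub_add_cancel] at this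

theorem Frame.mem_ctrsS [IsIntegrallyClosed B] (hF : Frame i x y z v w) (hS : Step i) (hB : QuadPt B)
    (hd : Data h₀ h₁ h₂ h₃ x y z) : ctr i v w ∈ ctrsS h₀ h₁ h₂ h₃ := by
  obtain ⟨γ, hγ⟩ := hF.data_eq hS hd
  have hw := hF.mem_w hS hd
  haveI := hF.isPrime_ctr hS
  have hX1 : red A (X 1) ∈ ctr i v w := by rw [hF.mem_ctr hS, ev_X1]; exact hw
  have hXe : red A (X 1) = X 1 := by simp [red]
  refine ⟨inferInstance, hXe ▸ hX1, ?_, ?_⟩
  · rw [cubic, hF.mem_ctr hS]
    simp only [map_add, map_mul, map_pow, ev_C, ev_X0]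
    by_contra hu
    have hu2 : IsUnit (γ * w + (i h₀ + i h₁ * v + i h₂ * v ^ 2 + i h₃ * v ^ 3)) := by
      refine notMem_maximalIdeal.1 fun h => hu ?_
      have h1 := sub_mem h (Ideal.mul_mem_left _ γ hw)
      rwa [add_sub_cancel_left] at h1
    obtain ⟨e, he⟩ := hu2.exists_left_inv
    obtain ⟨hmax, -⟩ := hF.centre hS hB (X 1 ^ 2) (by rw [map_pow, ev_X1, hγ]; exact dvd_mul_right _ _)
    rcases exists_pair_of_prime (ctr i v w) with ⟨f, hf⟩ | ⟨-, f, g, hfg⟩
    · obtain ⟨f, rfl⟩ := red_surjective f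
      exact hB.two _ _ ((hF.max_le hS (f := f) (g := f) (by rw [hf, Set.pair_eq_singleton])).trans
        (congrArg (fun s : Set B => Ideal.span (insert (i x) s)) (Set.pair_eq_singleton _)))
    · obtain ⟨f, rfl⟩ := red_surjective f
      obtain ⟨g, rfl⟩ := red_surjective g
      refine hB.not_mem_sq (hF.max_le hS hfg) ?_
      rw [show i x = e * w ^ 2 by rw [hγ, mul_left_comm, he, mul_one]]
      exact Ideal.mul_mem_left _ _ (Ideal.pow_mem_pow hw 2)
  · rintro ⟨m0, m1, m2, m3⟩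
    obtain ⟨d₀, e0⟩ := hF.dvd m0
    obtain ⟨d₁, e1⟩ := hF.dvd m1
    obtain ⟨d₂, e2⟩ := hF.dvd m2
    obtain ⟨d₃, e3⟩ := hF.dvd m3
    have hdvd := dvd_of_sq_eq (X := i x) (w := w) (p := γ) (q := d₀ + d₁ * v + d₂ * v ^ 2 + d₃ * v ^ 3) (hF.ne' hS)
      (by rw [hγ, e0, e1, e2, e3]; ring)
    obtain ⟨hmax, hsq⟩ := hF.centre hS hB (X 1) (by rw [ev_X1]; exact hdvd)
    exact one_notMem_sq_of_derivation hmax.ne_top (by simpa [red] using hsq)

/-- Finitely many charts and centres account for all double points over a double point. -/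
theorem exists_finite_ctr (hA : QuadPt A) :
    ∃ Γ : Set ((A × A × A) × Ideal (MvPolynomial (Fin 2) (ResidueField A))), Γ.Finite ∧
      ∀ (B : Type u) [CommRing B] [IsLocalRing B] [IsDomain B] [IsIntegrallyClosed B] (i : A →+* B),
        Step i → QuadPt B → ∃ (x y z : A) (v w : B), Frame i x y z v w ∧ ((x, y, z), ctr i v w) ∈ Γ := by
  by_cases hN : IsN A
  · obtain ⟨x, y, z, hm⟩ := hA.gen
    have hm2 := hm.trans (span_rot x y z)
    have hm3 := hm2.trans (span_rot y z x)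
    refine ⟨((fun p => ((x, y, z), p)) '' ctrsN x y z) ∪ ((fun p => ((y, z, x), p)) '' ctrsN y z x) ∪
      ((fun p => ((z, x, y), p)) '' ctrsN z x y),
      (((ctrsN_finite hA hN hm).image _).union ((ctrsN_finite hA hN hm2).image _)).union
        ((ctrsN_finite hA hN hm3).image _), fun B _ _ _ _ i hS hB => ?_⟩
    rcases hS.cases hm with h | h | h
    · obtain ⟨v, w, hF⟩ := Frame.exists_of_dvd hm (hA.ne₁ hm) h
      exact ⟨x, y, z, v, w, hF, Or.inl (Or.inl ⟨_, hF.mem_ctrsN hS hA hB hN, rfl⟩)⟩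
    · obtain ⟨v, w, hF⟩ := Frame.exists_of_dvd hm2 (hA.ne₁ hm2) h
      exact ⟨y, z, x, v, w, hF, Or.inl (Or.inr ⟨_, hF.mem_ctrsN hS hA hB hN, rfl⟩)⟩
    · obtain ⟨v, w, hF⟩ := Frame.exists_of_dvd hm3 (hA.ne₁ hm3) h
      exact ⟨z, x, y, v, w, hF, Or.inr ⟨_, hF.mem_ctrsN hS hA hB hN, rfl⟩⟩
  · obtain ⟨x, y, z, h₀, h₁, h₂, h₃, hd⟩ := hA.exists_data hN
    refine ⟨((fun p => ((x, y, z), p)) '' ctrsS h₀ h₁ h₂ h₃) ∪ ((fun p => ((y, x, z), p)) '' ctrsS h₃ h₂ h₁ h₀),
      (ctrsS_finite.image _).union (ctrsS_finite.image _), fun B _ _ _ _ i hS hB => ?_⟩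
    rcases hd.cases hS with h | ⟨h, -⟩
    · obtain ⟨v, w, hF⟩ := Frame.exists_of_dvd hd.1 (hA.ne₁ hd.1) h
      exact ⟨x, y, z, v, w, hF, Or.inl ⟨_, hF.mem_ctrsS hS hB hd, rfl⟩⟩
    · obtain ⟨v, w, hF⟩ := Frame.exists_of_dvd hd.swap.1 (hA.ne₁ hd.swap.1) h
      exact ⟨y, x, z, v, w, hF, Or.inr ⟨_, hF.mem_ctrsS hS hB hd.swap, rfl⟩⟩

end Groth.Agent.DoublePt
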