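import Groth.Agent.DoublePt.Chain
import Groth.Agent.DoublePt.Finite
import Groth.Agent.RatSing.Hilbert
import Mathlib

/-!
# Rational double points and their steps
-/

set_option autoImplicit false
set_option linter.style.haveILetI false
set_option linter.unusedSectionVars false
set_option maxHeartbeats 800000

universe u

open IsLocalRing MvPolynomial

namespace Groth.Agent.DoublePt

/-- Three generators from a bound on the embedding dimension. -/
theorem exists_three {A : Type u} [CommRing A] [IsLocalRing A] [IsNoetherianRing A]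
    (h : Module.finrank (ResidueField A) (CotangentSpace A) ≤ 3) :
    ∃ x y z : A, maximalIdeal A = Ideal.span {x, y, z} := by
  classical
  obtain ⟨s, hcard, hs⟩ := Submodule.FG.exists_span_finset_card_eq_spanFinrank (IsNoetherian.noetherian (maximalIdeal A))
  rw [← spanFinrank_maximalIdeal_eq_finrank_cotangentSpace, ← hcard] at h
  have key : ∀ l : List A, l.length ≤ 3 → ∃ x y z : A, Ideal.span {a | a ∈ l} = Ideal.span {x, y, z} := by
    intro l hl
    match l, hl with
    | [], _ => exact ⟨0, 0, 0, by simp⟩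
    | [a], _ => exact ⟨a, a, a, congrArg Ideal.span (by ext; simp)⟩
    | [a, b], _ => exact ⟨a, b, b, congrArg Ideal.span (by ext; simp)⟩
    | [a, b, c], _ => exact ⟨a, b, c, congrArg Ideal.span (by ext; simp)⟩
    | a :: b :: c :: d :: l, hl => simp only [List.length_cons] at hl; omega
  obtain ⟨x, y, z, he⟩ := key s.toList (by rwa [Finset.length_toList])
  refine ⟨x, y, z, ?_⟩
  rw [← he, ← hs]
  congr 1
  ext a; simp

/-- The hypotheses on a rational double point give the quadratic relation. -/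
theorem quadPt_of {A : Type u} [CommRing A] [IsLocalRing A] [IsNoetherianRing A]
    (hdim : ringKrullDim A = 2) (hgen : ∃ x y z : A, maximalIdeal A = Ideal.span {x, y, z})
    (hnr : ¬ IsRegularLocalRing A) {μ : ℕ}
    (hh : ∀ r : ℕ, Module.length A (RatSing.Gr A r) = ((r * μ + 1 : ℕ) : ℕ∞)) : QuadPt A := by
  classical
  have htwo : ∀ p q : A, maximalIdeal A ≠ Ideal.span {p, q} := by
    intro p q h
    refine hnr (IsRegularLocalRing.of_spanFinrank_maximalIdeal_le A ?_)
    rw [hdim]
    have h1 : (maximalIdeal A).spanFinrank ≤ 2 := by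
      rw [h]
      refine (Submodule.spanFinrank_span_le_ncard_of_finite (Set.toFinite _)).trans ?_
      exact (Set.ncard_insert_le _ _).trans (by rw [Set.ncard_singleton])
    exact_mod_cast h1
  have hcot : Module.length A (CotangentSpace A) = Module.length A (RatSing.Gr A 1) := by
    refine (Submodule.Quotient.equiv _ _ (LinearEquiv.ofEq (maximalIdeal A) (maximalIdeal A ^ 1) (pow_one _).symm) ?_).length_eq
    ext x
    rw [Submodule.mem_map_equiv, Submodule.mem_smul_top_iff]
    simp [pow_two]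
  rw [hh 1, one_mul, Module.length_eq_of_surjective (S := A) (R := ResidueField A) (M := CotangentSpace A)
    Ideal.Quotient.mk_surjective, Module.length_eq_finrank] at hcot
  have hμ : Module.finrank (ResidueField A) (CotangentSpace A) = μ + 1 := by exact_mod_cast hcot
  obtain ⟨x₀, y₀, z₀, h₀⟩ := hgen
  have hle : μ + 1 ≤ 3 := by
    rw [← hμ, ← spanFinrank_maximalIdeal_eq_finrank_cotangentSpace, h₀]
    refine (Submodule.spanFinrank_span_le_ncard_of_finite (Set.toFinite _)).trans ?_
    refine (Set.ncard_insert_le _ _).trans (Nat.succ_le_succ ?_)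
    exact (Set.ncard_insert_le _ _).trans (by rw [Set.ncard_singleton])
  have hge : ¬ (μ + 1 ≤ 2) := fun h => hnr (IsRegularLocalRing.of_spanFinrank_maximalIdeal_le A (by
    rw [hdim, spanFinrank_maximalIdeal_eq_finrank_cotangentSpace, hμ]
    exact_mod_cast h))
  obtain rfl : μ = 2 := by omega
  have key : ∀ x y z : A, maximalIdeal A = Ideal.span {x, y, z} →
      ∃ c₀ : Fin 6 → A, (∃ i, c₀ i ∉ maximalIdeal A) ∧ quad c₀ x y z ∈ maximalIdeal A ^ 3 ∧
        ∀ c c' : Fin 6 → A, quad c x y z ∈ maximalIdeal A ^ 3 → quad c' x y z ∈ maximalIdeal A ^ 3 →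
          (∃ i, c' i ∉ maximalIdeal A) → ∃ r : A, ∀ i, c i - r * c' i ∈ maximalIdeal A := by
    intro x y z hm
    have hq : ∀ c : Fin 6 → A, quad c x y z ∈ maximalIdeal A ^ 2 := fun c => by
      have hp : ∀ a p q : A, p ∈ maximalIdeal A → q ∈ maximalIdeal A → a * (p * q) ∈ maximalIdeal A ^ 2 :=
        fun a p q hp hq => by rw [pow_two]; exact Ideal.mul_mem_left _ _ (Ideal.mul_mem_mul hp hq)
      unfold quad
      rw [pow_two x, pow_two y, pow_two z]
      exact add_mem (add_mem (add_mem (add_mem (add_mem (hp _ _ _ (mem₁ hm) (mem₁ hm)) (hp _ _ _ (mem₁ hm) (mem₂ hm)))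
        (hp _ _ _ (mem₁ hm) (mem₃ hm))) (hp _ _ _ (mem₂ hm) (mem₂ hm))) (hp _ _ _ (mem₂ hm) (mem₃ hm)))
        (hp _ _ _ (mem₃ hm) (mem₃ hm))
    let Φ : (Fin 6 → A) →ₗ[A] RatSing.Gr A 2 :=
      (Submodule.mkQ (Submodule.comap (maximalIdeal A ^ 2).subtype (maximalIdeal A ^ (2 + 1)))).comp
        (show (Fin 6 → A) →ₗ[A] ↥(maximalIdeal A ^ 2) from
        { toFun := fun c => ⟨quad c x y z, hq c⟩
          map_add' := fun c c' => Subtype.ext (by simp only [quad, Pi.add_apply, Submodule.coe_add]; ring)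
          map_smul' := fun r c => Subtype.ext (show quad (r • c) x y z = r * quad c x y z by
            simp only [quad, Pi.smul_apply, smul_eq_mul]; ring) })
    have hΦ : ∀ c, Φ c = 0 ↔ quad c x y z ∈ maximalIdeal A ^ 3 := fun c => by
      simp only [Φ, LinearMap.comp_apply, Submodule.mkQ_apply, Submodule.Quotient.mk_eq_zero]
      rfl
    let π : (Fin 6 → A) →ₗ[A] (Fin 6 → ResidueField A) :=
      LinearMap.pi fun j => (Algebra.linearMap A (ResidueField A)).comp (LinearMap.proj j)
    have hπ : ∀ c j, π c j = residue A (c j) := fun c j => rfl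
    have hπs : Function.Surjective π := fun e => by
      choose c hc using fun j => residue_surjective (e j)
      exact ⟨c, funext fun j => (hπ c j).trans (hc j)⟩
    have hker : LinearMap.ker π ≤ LinearMap.ker Φ := fun c hc => by
      rw [LinearMap.mem_ker, hΦ]
      exact quad_mem hm fun j => (residue_eq_zero_iff _).1 (congrFun (LinearMap.mem_ker.1 hc) j)
    let Φ' : (Fin 6 → ResidueField A) →ₗ[A] RatSing.Gr A 2 :=
      (Submodule.liftQ _ Φ hker).comp (π.quotKerEquivOfSurjective hπs).symm.toLinearMap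
    have hΦ' : ∀ c, Φ' (π c) = Φ c := fun c => by
      simp only [Φ', LinearMap.comp_apply, LinearEquiv.coe_toLinearMap]
      rw [show (π.quotKerEquivOfSurjective hπs).symm (π c) = Submodule.Quotient.mk c from
        (LinearEquiv.symm_apply_eq _).2 rfl]
      rfl
    have hΦs : Function.Surjective Φ' := fun g => by
      obtain ⟨⟨t, ht⟩, rfl⟩ := Submodule.Quotient.mk_surjective _ g
      obtain ⟨g, hg, a, b, c, rfl⟩ := exists_quadratic hm ht
      obtain ⟨α, β, γ, hgc⟩ := exists_comb hm hg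
      refine ⟨π ![a, b, α, c, β, γ], ?_⟩
      rw [hΦ']
      refine congrArg Submodule.Quotient.mk (Subtype.ext ?_)
      show quad _ x y z = g * z + a * x ^ 2 + b * (x * y) + c * y ^ 2
      rw [hgc]
      simp only [quad, Fin.isValue, Matrix.cons_val]
      ring
    have hlen : Module.length A (LinearMap.ker Φ') = 1 := by
      have h1 := Module.length_eq_add_of_exact (LinearMap.ker Φ').subtype Φ' (Submodule.injective_subtype _) hΦs
        (fun e => ⟨fun he => ⟨⟨e, he⟩, rfl⟩, by rintro ⟨e', rfl⟩; exact e'.2⟩)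
      rw [hh 2, Module.length_eq_of_surjective (S := A) (R := ResidueField A) (M := Fin 6 → ResidueField A)
        Ideal.Quotient.mk_surjective, Module.length_eq_finrank, Module.finrank_fintype_fun_eq_card, Fintype.card_fin] at h1
      exact (WithTop.add_right_cancel (WithTop.natCast_ne_top 5) ((show ((1 : ℕ∞) + (5 : ℕ)) = ((6 : ℕ) : ℕ∞) by rfl).trans h1)).symm
    haveI : IsSimpleModule A (LinearMap.ker Φ') := Module.length_eq_one_iff.1 hlen
    haveI : Nontrivial (LinearMap.ker Φ') := IsSimpleModule.nontrivial A _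
    obtain ⟨⟨e, he⟩, hne⟩ := exists_ne (0 : LinearMap.ker Φ')
    obtain ⟨c₀, rfl⟩ := hπs e
    refine ⟨c₀, ?_, (hΦ c₀).1 ((hΦ' c₀).symm.trans he), fun c c' hc hc' hne' => ?_⟩
    · by_contra hall
      push Not at hall
      exact hne (Subtype.ext (funext fun j => (hπ c₀ j).trans ((residue_eq_zero_iff _).2 (hall j))))
    · let k : LinearMap.ker Φ' := ⟨π c, LinearMap.mem_ker.2 ((hΦ' c).trans ((hΦ c).2 hc))⟩
      let k' : LinearMap.ker Φ' := ⟨π c', LinearMap.mem_ker.2 ((hΦ' c').trans ((hΦ c').2 hc'))⟩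
      have hk' : k' ≠ 0 := fun h0 => by
        obtain ⟨j, hj⟩ := hne'
        exact hj ((residue_eq_zero_iff _).1 (congrFun (congrArg Subtype.val h0) j))
      obtain ⟨r, hr⟩ := IsSimpleModule.toSpanSingleton_surjective A hk' k
      refine ⟨r, fun j => (residue_eq_zero_iff _).1 ?_⟩
      have h := congrFun (congrArg Subtype.val hr) j
      change r • residue A (c' j) = residue A (c j) at h
      rw [map_sub, map_mul, ← h, Algebra.smul_def]
      exact sub_self _
  exact ⟨⟨x₀, y₀, z₀, h₀⟩, htwo, fun x y z hm => (key x y z hm).imp fun c h => ⟨h.1, h.2.1⟩,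
    fun x y z hm => (key x y z hm).choose_spec.2.2⟩

section Step

variable {A B : Type u} [CommRing A] [IsLocalRing A] [CommRing B] [IsLocalRing B] {i : A →+* B}

/-- The next ring again has three generators. -/
theorem Step.exists_three [IsDomain A] [IsDomain B] (hS : Step i) {x y z : A} (h : maximalIdeal A = Ideal.span {x, y, z}) :
    ∃ p q r : B, maximalIdeal B = Ideal.span {p, q, r} := by
  have key : ∀ {x y z : A}, maximalIdeal A = Ideal.span {x, y, z} → x ≠ 0 → (∀ t ∈ maximalIdeal A, i x ∣ i t) →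
      ∃ p q r : B, maximalIdeal B = Ideal.span {p, q, r} := by
    intro x y z hm hne hd
    obtain ⟨v, w, hF⟩ := Frame.exists_of_dvd hm hne hd
    haveI := hF.isPrime_ctr hS
    rcases exists_pair_of_prime (ctr i v w) with ⟨f, hf⟩ | ⟨-, f, g, hfg⟩
    · obtain ⟨f, rfl⟩ := red_surjective f
      exact ⟨_, _, _, hF.max_le hS (f := f) (g := f) (by rw [hf, Set.pair_eq_singleton])⟩
    · obtain ⟨f, rfl⟩ := red_surjective f
      obtain ⟨g, rfl⟩ := red_surjective g
      exact ⟨_, _, _, hF.max_le hS hfg⟩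
  obtain ⟨s, hs, hs0, hdiv⟩ := hS.princ
  have hne : ∀ {t : A}, (∀ t' ∈ maximalIdeal A, i t ∣ i t') → t ≠ 0 := fun hd e => by
    obtain ⟨c, hc⟩ := hd s hs
    exact hs0 (hS.inj (by rw [hc, e, map_zero, zero_mul]))
  rcases hS.cases h with hd | hd | hd
  · exact key h (hne hd) hd
  · exact key (h.trans (span_rot x y z)) (hne hd) hd
  · exact key ((h.trans (span_rot x y z)).trans (span_rot y z x)) (hne hd) hd

end Step

variable {K : Type u} [Field K]

/-- A local ring of a chart gives a step. -/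
theorem step_of_chart {S T : Subring K} [IsLocalRing S] [IsLocalRing T] (hle : S ≤ T)
    (hdom : ∀ t ∈ maximalIdeal S, Subring.inclusion hle t ∈ maximalIdeal T) {a : S} (ha : a ∈ maximalIdeal S)
    (ha0 : (a : K) ≠ 0) (hdiv : ∀ t ∈ maximalIdeal S, (t : K) / a ∈ T)
    (hfr : ∀ c ∈ T, ∃ p ∈ Subring.closure ((S : Set K) ∪ (fun t : S => (t : K) / a) '' (maximalIdeal S : Set S)),
      ∃ q ∈ Subring.closure ((S : Set K) ∪ (fun t : S => (t : K) / a) '' (maximalIdeal S : Set S)),
        q ≠ 0 ∧ c * q = p ∧ q⁻¹ ∈ T) : Step (Subring.inclusion hle) := by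
  refine ⟨Subring.inclusion_injective hle, hdom, ⟨a, ha, fun e => ha0 (congrArg Subtype.val e), fun t ht =>
    ⟨⟨(t : K) / a, hdiv t ht⟩, Subtype.ext (show (t : K) = a * ((t : K) / a) by field_simp)⟩⟩, ?_⟩
  intro x y z v w hF b
  set φ := ev (Subring.inclusion hle) v w with hφ
  let E : MvPolynomial (Fin 2) S →+* K := T.subtype.comp φ
  have hEC : ∀ s : S, E (C s) = s := fun s => congrArg Subtype.val (ev_C _ v w s)
  have hx0 : (x : K) ≠ 0 := fun e => hF.ne (Subtype.ext e)
  have hv : (x : K) * v = y := congrArg Subtype.val hF.hv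
  have hw : (x : K) * w = z := congrArg Subtype.val hF.hw
  have hlin : ∀ t ∈ maximalIdeal S, ∃ P, E P = (t : K) / x := by
    intro t ht
    obtain ⟨α, β, γ, rfl⟩ := exists_comb hF.gen ht
    refine ⟨C α + C β * X 0 + C γ * X 1, ?_⟩
    rw [eq_div_iff hx0]
    simp only [map_add, map_mul, hEC, show E (X 0) = (v : K) from congrArg Subtype.val (ev_X0 _ v w),
      show E (X 1) = (w : K) from congrArg Subtype.val (ev_X1 _ v w)]
    show ((α : K) + β * v + γ * w) * x = α * x + β * y + γ * z
    linear_combination (β : K) * hv + (γ : K) * hw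
  obtain ⟨Pu, hPu⟩ := hlin a ha
  set u : K := (a : K) / x with hu
  have hrep : ∀ p ∈ Subring.closure ((S : Set K) ∪ (fun t : S => (t : K) / a) '' (maximalIdeal S : Set S)),
      ∃ k P, E P = p * u ^ k := by
    intro p hp
    induction hp using Subring.closure_induction with
    | mem p hp =>
      rcases hp with hp | ⟨t, ht, rfl⟩
      · exact ⟨0, C ⟨p, hp⟩, by rw [hEC, pow_zero, mul_one]⟩
      · obtain ⟨P, hP⟩ := hlin t ht
        refine ⟨1, P, ?_⟩
        rw [hP, pow_one, hu, div_mul_div_cancel₀ ha0]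
    | zero => exact ⟨0, 0, by simp⟩
    | one => exact ⟨0, 1, by simp⟩
    | add p q _ _ hp hq =>
      obtain ⟨k, P, hP⟩ := hp
      obtain ⟨l, Q, hQ⟩ := hq
      exact ⟨k + l, P * Pu ^ l + Q * Pu ^ k, by rw [map_add, map_mul, map_mul, map_pow, map_pow, hP, hQ, hPu]; ring⟩
    | neg p _ hp => obtain ⟨k, P, hP⟩ := hp; exact ⟨k, -P, by rw [map_neg, hP]; ring⟩
    | mul p q _ _ hp hq =>
      obtain ⟨k, P, hP⟩ := hp
      obtain ⟨l, Q, hQ⟩ := hq
      exact ⟨k + l, P * Q, by rw [map_mul, hP, hQ]; ring⟩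
  obtain ⟨p, hp, q, hq, hq0, hcq, hqinv⟩ := hfr b b.2
  obtain ⟨k, P, hP⟩ := hrep p hp
  obtain ⟨l, Q, hQ⟩ := hrep q hq
  refine ⟨P * Pu ^ l, Q * Pu ^ k, ?_, Subtype.ext ?_⟩
  · refine IsUnit.of_mul_eq_one ⟨q⁻¹ * ((x : K) / a) ^ (l + k), mul_mem hqinv (pow_mem (hdiv x (mem₁ hF.gen)) _)⟩
      (Subtype.ext ?_)
    show E (Q * Pu ^ k) * (q⁻¹ * ((x : K) / a) ^ (l + k)) = 1
    rw [map_mul, map_pow, hQ, hPu]
    have h1 : u * ((x : K) / a) = 1 := by rw [hu, div_mul_div_cancel₀ hx0, div_self ha0]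
    rw [show q * u ^ l * u ^ k * (q⁻¹ * ((x : K) / a) ^ (l + k)) = q * q⁻¹ * (u * ((x : K) / a)) ^ (l + k) by ring,
      mul_inv_cancel₀ hq0, h1, one_pow, one_mul]
  · show (b : K) * E (Q * Pu ^ k) = E (P * Pu ^ l)
    rw [map_mul, map_mul, map_pow, map_pow, hQ, hP, hPu, ← hcq]
    ring

/-- The chart and the centre determine the next ring. -/
theorem le_of_ctr_eq {A T T' : Subring K} [IsLocalRing A] [IsLocalRing T] [IsLocalRing T'] {hl : A ≤ T} {hl' : A ≤ T'}
    (hS : Step (Subring.inclusion hl)) (hS' : Step (Subring.inclusion hl')) {x y z : A} {v w : T} {v' w' : T'}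
    (hF : Frame (Subring.inclusion hl) x y z v w) (hF' : Frame (Subring.inclusion hl') x y z v' w')
    (hv : (v : K) = v') (hw : (w : K) = w')
    (hc : ctr (Subring.inclusion hl) v w = ctr (Subring.inclusion hl') v' w') : T ≤ T' := by
  intro c hcm
  have heq : ∀ P : MvPolynomial (Fin 2) A,
      ((ev (Subring.inclusion hl) v w P : T) : K) = ev (Subring.inclusion hl') v' w' P := by
    intro P
    refine RingHom.congr_fun (?_ : T.subtype.comp (ev (Subring.inclusion hl) v w) =
      T'.subtype.comp (ev (Subring.inclusion hl') v' w')) P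
    refine MvPolynomial.ringHom_ext (fun r => ?_) fun k => ?_
    · simp only [RingHom.comp_apply, ev_C]; rfl
    · fin_cases k <;> simp [hv, hw]
  obtain ⟨P, Q, hQ, he⟩ := hS.chart _ _ _ _ _ hF ⟨c, hcm⟩
  have hQ' : IsUnit (ev (Subring.inclusion hl') v' w' Q) := by
    by_contra hu
    have h3 := (hF'.mem_ctr hS').2 ((mem_maximalIdeal _).2 hu)
    rw [← hc, hF.mem_ctr hS] at h3
    exact (mem_maximalIdeal _).1 h3 hQ
  obtain ⟨d, hd⟩ := hQ'.exists_right_inv
  have e1 : c * ((ev (Subring.inclusion hl) v w Q : T) : K) = ((ev (Subring.inclusion hl) v w P : T) : K) :=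
    congrArg Subtype.val he
  rw [heq, heq] at e1
  have e2 : ((ev (Subring.inclusion hl') v' w' Q : T') : K) * d = 1 := congrArg Subtype.val hd
  rw [show c = c * ((ev (Subring.inclusion hl') v' w' Q : T') : K) * d by rw [mul_assoc, e2, mul_one], e1]
  exact mul_mem (Subtype.mem _) d.2

end Groth.Agent.DoublePt
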