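import Groth.Agent.S11781
import Groth.Agent.RatType.Main

/-!
# The graded ring of a rational singularity over a Nagata ring
-/

set_option autoImplicit false
set_option backward.isDefEq.respectTransparency false
set_option backward.isDefEq.respectTransparency.types false
set_option maxHeartbeats 400000
universe u
open CategoryTheory AlgebraicGeometry
open Resolve

namespace Groth.Agent.DoublePt

/-- The graded pieces of a rational surface singularity grow linearly. -/
theorem length_gr_of_nagata (A : Type u) [CommRing A] [IsDomain A]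
    [IsLocalRing A] [IsNoetherianRing A] [IsIntegrallyClosed A] (hN : CAlg.IsNagata A) (hdim : ringKrullDim A = 2)
    (hA : Curv2.IsRationalSing A) :
    ∃ μ : ℕ, ∀ r : ℕ, Module.length A (↥(IsLocalRing.maximalIdeal A ^ r) ⧸
        Submodule.comap (IsLocalRing.maximalIdeal A ^ r).subtype (IsLocalRing.maximalIdeal A ^ (r + 1))) =
      ((r * μ + 1 : ℕ) : ℕ∞) := by
  classical
  haveI : IsDomain (CommRingCat.of A) := ‹IsDomain A›
  haveI : IsLocalRing (CommRingCat.of A) := ‹IsLocalRing A›
  haveI : IsNoetherianRing (CommRingCat.of A) := ‹IsNoetherianRing A›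
  haveI : IsIntegrallyClosed (CommRingCat.of A) := ‹IsIntegrallyClosed A›
  obtain ⟨D, hD, hrecl⟩ := Groth.Agent.S11781.exists_split (R := CommRingCat.of A)
    hN hdim hA
  haveI : Finite (MaximalSpectrum A) :=
    Finite.of_injective (fun _ => ()) fun a b _ => MaximalSpectrum.ext
      ((IsLocalRing.eq_maximalIdeal a.isMaximal).trans (IsLocalRing.eq_maximalIdeal b.isMaximal).symm)
  obtain ⟨P, ⟨N, hP⟩, hPd⟩ := Groth.Agent.S3405.result A A
  rw [Module.supportDim_self_eq_ringKrullDim, hdim] at hPd
  have hPd' : P.natDegree = 2 := by exact_mod_cast hPd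
  let L : ℕ → ℚ := fun n => ((Module.length A (A ⧸ IsLocalRing.maximalIdeal A ^ n)).toNat : ℚ)
  let h : ℕ → ℚ := fun n => ((Module.length A (Groth.Agent.RatSing.Gr A n)).toNat : ℚ)
  have hL : ∀ n, N ≤ n → L n = P.coeff 0 + P.coeff 1 * n + P.coeff 2 * (n : ℚ) ^ 2 := by
    intro n hn
    obtain ⟨ℓ, hℓ, hℓP⟩ := hP n hn
    rw [IsLocalRing.ringJacobson_eq_maximalIdeal, smul_eq_mul, Ideal.mul_top] at hℓ
    show ((Module.length A (A ⧸ IsLocalRing.maximalIdeal A ^ n)).toNat : ℚ) = _
    rw [hℓ, ENat.toNat_natCast, hℓP, Polynomial.eval_eq_sum_range, hPd']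
    simp [Finset.sum_range_succ]
  have hstep : ∀ n, L (n + 1) = h n + L n := fun n => by
    show ((Module.length A (A ⧸ IsLocalRing.maximalIdeal A ^ (n + 1))).toNat : ℚ) = _
    rw [Groth.Agent.RatSing.length_gr_add, ENat.toNat_add (Groth.Agent.RatSing.length_gr_ne_top n)
      (Groth.Agent.RatSing.length_pow_ne_top n), Nat.cast_add]
  have hrec : ∀ n, h (n + D) + h (n + D) = h n + h (n + D + D) := fun n => by
    have h1 : Module.length A (Groth.Agent.RatSing.Gr A (n + D)) + Module.length A (Groth.Agent.RatSing.Gr A (n + D)) =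
      Module.length A (Groth.Agent.RatSing.Gr A n) + Module.length A (Groth.Agent.RatSing.Gr A (n + D + D)) := hrecl n
    have h2 := congrArg ENat.toNat h1
    rw [ENat.toNat_add (Groth.Agent.RatSing.length_gr_ne_top _) (Groth.Agent.RatSing.length_gr_ne_top _),
      ENat.toNat_add (Groth.Agent.RatSing.length_gr_ne_top _) (Groth.Agent.RatSing.length_gr_ne_top _)] at h2
    simp only [h]
    exact_mod_cast h2
  have hev : ∀ n, N ≤ n → h n = (2 * P.coeff 2) * n + (P.coeff 1 + P.coeff 2) := by
    intro n hn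
    have h1 := hstep n
    rw [hL n hn, hL (n + 1) (hn.trans n.le_succ)] at h1
    push_cast at h1
    linear_combination -h1
  have hlin := Groth.Agent.RatSing.linear_of_rec (N := N) hD hrec hev
  have hres : Module.length A (Groth.Agent.RatSing.Gr A 0) = 1 := by
    have h1 := Groth.Agent.RatSing.length_gr_add (A := A) 0
    haveI : Subsingleton (A ⧸ IsLocalRing.maximalIdeal A ^ 0) :=
      Ideal.Quotient.subsingleton_iff.2 (by rw [pow_zero, Ideal.one_eq_top])
    rw [Module.length_eq_zero (R := A) (M := A ⧸ IsLocalRing.maximalIdeal A ^ 0), add_zero] at h1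
    rw [← h1]
    haveI : IsSimpleModule A (A ⧸ IsLocalRing.maximalIdeal A ^ (0 + 1)) :=
      isSimpleModule_iff_isCoatom.2 (by rw [zero_add, pow_one]; exact (IsLocalRing.maximalIdeal.isMaximal A).out)
    exact Module.length_eq_one A _
  have h0 : h 0 = 1 := by
    show ((Module.length A (Groth.Agent.RatSing.Gr A 0)).toNat : ℚ) = 1
    rw [hres]
    simp
  have hβ : P.coeff 1 + P.coeff 2 = 1 := by
    have h1 := hlin 0
    rw [h0] at h1
    push_cast at h1
    linarith
  have hne : 1 ≤ (Module.length A (Groth.Agent.RatSing.Gr A 1)).toNat := by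
    rw [Nat.one_le_iff_ne_zero]
    intro hz
    have hz' : Module.length A (Groth.Agent.RatSing.Gr A 1) = 0 :=
      (ENat.toNat_eq_zero.1 hz).resolve_right (Groth.Agent.RatSing.length_gr_ne_top 1)
    have hsub := (Module.length_eq_zero_iff (R := A)).1 hz'
    rw [Submodule.Quotient.subsingleton_iff, Submodule.comap_subtype_eq_top] at hsub
    have hbot : IsLocalRing.maximalIdeal A ^ 1 = ⊥ := by
      refine Submodule.eq_bot_of_le_smul_of_le_jacobson_bot (IsLocalRing.maximalIdeal A) _
        (IsNoetherian.noetherian _) ?_ (IsLocalRing.jacobson_eq_maximalIdeal ⊥ bot_ne_top).ge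
      refine le_trans hsub (le_of_eq ?_)
      rw [smul_eq_mul, pow_one, pow_two]
    rw [pow_one] at hbot
    exact Groth.Agent.RatSing.maximalIdeal_ne_bot (A := A) hdim hbot
  refine ⟨(Module.length A (Groth.Agent.RatSing.Gr A 1)).toNat - 1, fun r => ?_⟩
  rw [← ENat.natCast_toNat (Groth.Agent.RatSing.length_gr_ne_top (A := A) r)]
  congr 1
  have h1 := hlin 1
  have h2 := hlin r
  have h3 : ((Module.length A (Groth.Agent.RatSing.Gr A r)).toNat : ℚ) =
      ((r * ((Module.length A (Groth.Agent.RatSing.Gr A 1)).toNat - 1) + 1 : ℕ) : ℚ) := by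
    rw [Nat.cast_add, Nat.cast_mul, Nat.cast_sub hne]
    push_cast at h1 ⊢
    show h r = (r : ℚ) * (h 1 - 1) + 1
    rw [h1, h2, hβ]
    ring
  exact_mod_cast h3

end Groth.Agent.DoublePt
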