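import Groth.Agent.DoublePt.Blow
import Groth.Agent.DoublePt.Good
import Groth.Agent.DoublePt.Hilb
import Groth.Agent.NormSeq.Main
import Groth.Agent.RatUp.Main
import Groth.Agent.R1Push.Maximal
import Groth.Agent.ProjNorm6.Basic

/-!
# Resolution of rational double points
-/

set_option autoImplicit false
set_option linter.style.haveILetI false
set_option linter.unusedSectionVars false
set_option backward.isDefEq.respectTransparency false
set_option backward.isDefEq.respectTransparency.types false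
set_option maxHeartbeats 1000000

universe u

open CategoryTheory CategoryTheory.Limits AlgebraicGeometry TopologicalSpace IsLocalRing
open Groth.Agent.NormSeq (Model locRing Nice)

noncomputable section

namespace Groth.Agent.DoublePt

variable {R : CommRingCat.{u}} [IsDomain R]

local notation "KK" => Scheme.functionField (Spec R)

/-- The stalk as a subring of the function field. -/
def stalkEquiv (M : Model (Spec R)) (w : M.Z) : M.Z.presheaf.stalk w ≃+* locRing M w :=
  RingEquiv.ofBijective (M.toKHom w).hom.rangeRestrict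
    ⟨fun _ _ hab => M.toK_injective w (congrArg Subtype.val hab), (M.toKHom w).hom.rangeRestrict_surjective⟩

theorem isNagata_stalk (hN : CAlg.IsNagata R) (M : Model (Spec R)) [IsProper M.G] (y : M.Z) :
    CAlg.IsNagata (M.Z.presheaf.stalk y) := by
  obtain ⟨V, hV, hyV, -⟩ := exists_isAffineOpen_mem_and_subset (x := y) (U := ⊤) trivial
  have h := AlgSpDec.NagataLocal.isNagata_affineOpen M.G (fun _ : Unit => ⊤) (by simp) (fun _ => isAffineOpen_top _)
    (fun _ => CAlgOdd.NagataFT.isNagata_of_ringEquiv (Scheme.ΓSpecIso R).commRingCatIsoToRingEquiv.symm hN) V hV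
  letI := M.Z.presheaf.algebra_section_stalk ⟨y, hyV⟩
  haveI := hV.isLocalization_stalk ⟨y, hyV⟩
  exact NagataLib.isNagata_of_isLocalization h (hV.primeIdealOf ⟨y, hyV⟩).asIdeal.primeCompl _

/-- Singular points of normal surfaces are closed of dimension two. -/
theorem dim_of_singular {Z : Scheme.{u}} (hZ : Nice Z) (w : Z) (hw : ¬ IsRegularLocalRing (Z.presheaf.stalk w)) :
    IsClosed ({w} : Set Z) ∧ ringKrullDim (Z.presheaf.stalk w) = 2 := by
  haveI := hZ.noeth
  haveI := (hZ.normal w).1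
  haveI := (hZ.normal w).2
  have hd : ringKrullDim (Z.presheaf.stalk w) = 2 := by
    refine le_antisymm (hZ.dim w) ?_
    by_contra h2
    refine hw (ProjNorm6.isRegularLocalRing_of_dim_le_one _ ?_)
    generalize ringKrullDim (Z.presheaf.stalk w) = d at h2 ⊢
    cases d with
    | bot => exact bot_le
    | coe c =>
      exact WithBot.coe_le_coe.2 (Order.le_of_lt_add_one (lt_of_lt_of_le
        (WithBot.coe_lt_coe.1 (lt_of_not_ge h2)) (le_of_eq (by rfl))))
  refine ⟨isClosed_of_closure_subset fun v hv => ?_, hd⟩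
  by_contra hne
  have hlt : v < w := lt_of_le_of_ne (specializes_iff_mem_closure.2 hv) hne
  have h1 := hZ.dim v
  rw [ringKrullDim_stalk_eq_coheight] at h1 hd
  have h1' : Order.coheight v ≤ 2 := WithBot.coe_le_coe.1 (h1.trans_eq (by rfl))
  have h2 := Order.coheight_add_one_le hlt
  rw [show Order.coheight w = 2 from WithBot.coe_eq_coe.1 (hd.trans (by rfl))] at h2
  exact absurd (h2.trans h1') (by decide)

theorem isIntegrallyClosed_locRing (M : Model (Spec R)) (hM : Nice M.Z) (w : M.Z) :
    IsIntegrallyClosed (locRing M w) :=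
  haveI := (hM.normal w).2
  IsIntegrallyClosed.of_equiv (stalkEquiv M w)

/-- A rational singular point with three generators carries a quadratic relation. -/
theorem quadPt_locRing (hN : CAlg.IsNagata R) (M : Model (Spec R)) [IsProper M.G] (hM : Nice M.Z) (w : M.Z)
    (hA : Curv2.IsRationalSing (M.Z.presheaf.stalk w)) (hw : ¬ IsRegularLocalRing (M.Z.presheaf.stalk w))
    (h3 : ∃ x y z : locRing M w, maximalIdeal (locRing M w) = Ideal.span {x, y, z}) : QuadPt (locRing M w) := by
  haveI := hM.noeth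
  let e := stalkEquiv M w
  haveI : IsNoetherianRing (locRing M w) := isNoetherianRing_of_ringEquiv _ e
  haveI := isIntegrallyClosed_locRing M hM w
  have hdim : ringKrullDim (locRing M w) = 2 :=
    (ringKrullDim_eq_of_ringEquiv e).symm.trans (dim_of_singular hM w hw).2
  obtain ⟨μ, hμ⟩ := length_gr_of_nagata (locRing M w)
    (CAlgOdd.NagataFT.isNagata_of_ringEquiv e (isNagata_stalk hN M w)) hdim (RatUp.isRationalSing_of_ringEquiv e hA)
  exact quadPt_of hdim h3 (fun h => hw (haveI := h; IsRegularLocalRing.of_ringEquiv e.symm)) hμ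

section Step

variable {M : Model (Spec R)} {Y : Scheme.{u}} [IsIntegral Y] {b : Y ⟶ M.Z}
  (hgen : b (genericPoint Y) = genericPoint M.Z) (hbir : IsIso (b.stalkMap (genericPoint Y)))

theorem dom_inclusion (y : Y) (t : locRing M (b y)) (ht : t ∈ maximalIdeal (locRing M (b y))) :
    Subring.inclusion (RatUp.locRing_comp_le b hgen hbir y) t ∈ maximalIdeal (locRing (M.comp b hgen hbir) y) := by
  obtain ⟨_, a, rfl⟩ := t
  have h1 := (mem_maximalIdeal_iff M (b y) a).1 ht
  have e : Subring.inclusion (RatUp.locRing_comp_le b hgen hbir y) (⟨M.toKHom (b y) a, a, rfl⟩ : locRing M (b y)) =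
      ⟨(M.comp b hgen hbir).toKHom y (b.stalkMap y a), _, rfl⟩ :=
    Subtype.ext (congr($(M.comp_toK b hgen hbir y) a)).symm
  rw [show Subring.inclusion _ _ = _ from e, mem_maximalIdeal_iff (M.comp b hgen hbir) y]
  exact map_nonunit (b.stalkMap y).hom a h1

end Step

/-- Only finitely many double points lie on the charts over a double point. -/
theorem finite_of_step (M' : Model (Spec R)) [IsSeparated M'.G] (hM' : Nice M'.Z) {A : Subring KK} [IsLocalRing A]
    (hA : QuadPt A) (T : Set M'.Z)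
    (h : ∀ y ∈ T, ∃ hle : A ≤ locRing M' y, Step (Subring.inclusion hle) ∧ QuadPt (locRing M' y)) : T.Finite := by
  classical
  obtain ⟨Γ, hΓ, hΓc⟩ := exists_finite_ctr hA
  have hget : ∀ p : T, ∃ (x₀ y₀ z₀ : A) (v w : locRing M' p.1) (hl : A ≤ locRing M' p.1),
      Step (Subring.inclusion hl) ∧ Frame (Subring.inclusion hl) x₀ y₀ z₀ v w ∧
        ((x₀, y₀, z₀), ctr (Subring.inclusion hl) v w) ∈ Γ := by
    rintro ⟨y, hy⟩
    obtain ⟨hle, hS, hB⟩ := h y hy
    haveI := isIntegrallyClosed_locRing M' hM' y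
    obtain ⟨x₀, y₀, z₀, v, w, hF, hmem⟩ := hΓc (locRing M' y) (Subring.inclusion hle) hS hB
    exact ⟨x₀, y₀, z₀, v, w, hle, hS, hF, hmem⟩
  choose X₀ Y₀ Z₀ V W HL HS HF HM using hget
  haveI : Finite Γ := hΓ.to_subtype
  refine Set.finite_coe_iff.1 (Finite.of_injective (fun p => (⟨_, HM p⟩ : Γ)) fun p p' hpp => ?_)
  have h0 := congrArg Subtype.val hpp
  have hX : X₀ p = X₀ p' := congrArg (fun t => t.1.1) h0
  have hYY : Y₀ p = Y₀ p' := congrArg (fun t => t.1.2.1) h0
  have hZZ : Z₀ p = Z₀ p' := congrArg (fun t => t.1.2.2) h0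
  have h2 : ctr (Subring.inclusion (HL p)) (V p) (W p) = ctr (Subring.inclusion (HL p')) (V p') (W p') :=
    congrArg (fun t => t.2) h0
  have hne : ((X₀ p : A) : KK) ≠ 0 := fun e => (HF p).ne (Subtype.ext e)
  have hv : ((V p : locRing M' p.1) : KK) = V p' := by
    have a1 : (X₀ p : KK) * V p = Y₀ p := congrArg Subtype.val (HF p).hv
    have a2 : (X₀ p' : KK) * V p' = Y₀ p' := congrArg Subtype.val (HF p').hv
    rw [← hX, ← hYY] at a2
    exact mul_left_cancel₀ hne (a1.trans a2.symm)
  have hw : ((W p : locRing M' p.1) : KK) = W p' := by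
    have a1 : (X₀ p : KK) * W p = Z₀ p := congrArg Subtype.val (HF p).hw
    have a2 : (X₀ p' : KK) * W p' = Z₀ p' := congrArg Subtype.val (HF p').hw
    rw [← hX, ← hZZ] at a2
    exact mul_left_cancel₀ hne (a1.trans a2.symm)
  have heqR : locRing M' p.1 = locRing M' p'.1 := by
    refine le_antisymm
      (le_of_ctr_eq (HS p) (HS p') (HF p) ?_ hv hw h2)
      (le_of_ctr_eq (HS p') (HS p) (HF p') ?_ hv.symm hw.symm h2.symm)
    · have h := HF p'
      rwa [← hX, ← hYY, ← hZZ] at h
    · have h := HF p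
      rwa [hX, hYY, hZZ] at h
  obtain ⟨U, hU⟩ := RatUp.exists_valuation M' p.1
  have hU' : RatUp.Ctr M' U p'.1 := ⟨heqR ▸ hU.1, fun c hc hi => heqR ▸ hU.2 c (heqR.symm ▸ hc) hi⟩
  exact Subtype.ext (RatUp.Ctr.unique M' hU hU')

/-- A model all whose singular points are double points with normal completion. -/
structure Stage (M₀ : Model (Spec R)) where
  Y : Scheme.{u}
  [integral : IsIntegral Y]
  g : Y ⟶ M₀.Z
  hgen : g (genericPoint Y) = genericPoint M₀.Z
  hbir : IsIso (g.stalkMap (genericPoint Y))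
  proper : IsProper g
  nice : Nice Y
  finite : {y : Y | ¬ IsRegularLocalRing (Y.presheaf.stalk y)}.Finite
  three : ∀ y : Y, ¬ IsRegularLocalRing (Y.presheaf.stalk y) →
    ∃ a b c : locRing (M₀.comp g hgen hbir) y,
      maximalIdeal (locRing (M₀.comp g hgen hbir) y) = Ideal.span {a, b, c}
  cpl : ∀ y : Y, ¬ IsRegularLocalRing (Y.presheaf.stalk y) →
    IsDomain (Curv2.cpl (Y.presheaf.stalk y)) ∧ IsIntegrallyClosed (Curv2.cpl (Y.presheaf.stalk y))

attribute [instance] Stage.integral

namespace Stage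

variable {M₀ : Model (Spec R)} (S : Stage M₀)

/-- The model of a stage. -/
abbrev M : Model (Spec R) := M₀.comp S.g S.hgen S.hbir

theorem proper_M [IsProper M₀.G] : IsProper S.M.G := by
  haveI := S.proper
  exact inferInstanceAs (IsProper (S.g ≫ M₀.G))

end Stage

variable (hN : CAlg.IsNagata R) {M₀ : Model (Spec R)} [IsProper M₀.G]
  (hrat : ∀ (Y : Scheme.{u}) [IsIntegral Y] (g : Y ⟶ M₀.Z) [IsProper g], IsIso (g.stalkMap (genericPoint Y)) →
    Nice Y → ∀ y : Y, Curv2.IsRationalSing (Y.presheaf.stalk y))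
include hN hrat

theorem Stage.quad (S : Stage M₀) (y : S.Y) (hy : ¬ IsRegularLocalRing (S.Y.presheaf.stalk y)) :
    QuadPt (locRing S.M y) := by
  haveI := S.proper_M
  haveI := S.proper
  exact quadPt_locRing hN S.M S.nice y (hrat S.Y S.g S.hbir S.nice y) hy (S.three y hy)

/-- The next stage. -/
theorem Stage.exists_next (S : Stage M₀) :
    ∃ (S' : Stage M₀) (π : S'.Y → S.Y), ∀ y, ¬ IsRegularLocalRing (S'.Y.presheaf.stalk y) →
      ¬ IsRegularLocalRing (S.Y.presheaf.stalk (π y)) ∧
      ∃ hle : locRing S.M (π y) ≤ locRing S'.M y, Step (Subring.inclusion hle) := by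
  classical
  haveI := S.proper
  haveI := S.proper_M
  let s := S.finite.toFinset
  have hs : ∀ z ∈ s, IsClosed ({z} : Set S.M.Z) ∧ ringKrullDim (S.M.Z.presheaf.stalk z) = 2 ∧
      CAlg.IsNagata (S.M.Z.presheaf.stalk z) ∧ Curv2.IsRationalSing (S.M.Z.presheaf.stalk z) := fun z hz =>
    ⟨(dim_of_singular S.nice z (S.finite.mem_toFinset.1 hz)).1, (dim_of_singular S.nice z (S.finite.mem_toFinset.1 hz)).2,
      isNagata_stalk hN S.M z, hrat S.Y S.g S.hbir S.nice z⟩
  obtain ⟨Y', b, hint, hgen, hbir, hP, hY', hoff, hcpl, hchart⟩ := exists_round S.M S.nice s hs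
  haveI := hint
  haveI := hP
  haveI := hY'.noeth
  have hgen' : (b ≫ S.g) (genericPoint Y') = genericPoint M₀.Z := by
    rw [Scheme.Hom.comp_apply, hgen]
    exact S.hgen
  have hbir' : IsIso ((b ≫ S.g).stalkMap (genericPoint Y')) := NormSeq.isIso_stalkMap_comp b S.g hbir S.hbir
  let M' : Model (Spec R) := M₀.comp (b ≫ S.g) hgen' hbir'
  haveI : IsProper M'.G := inferInstanceAs (IsProper ((b ≫ S.g) ≫ M₀.G))
  have hM' : ∀ y : Y', locRing (S.M.comp b hgen hbir) y = locRing M' y := fun y => by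
    have key : ∀ (G₁ G₂ : Y' ⟶ Spec R) (p₁ : G₁ (genericPoint Y') = genericPoint (Spec R))
        (p₂ : G₂ (genericPoint Y') = genericPoint (Spec R)) (q₁ : IsIso (G₁.stalkMap (genericPoint Y')))
        (q₂ : IsIso (G₂.stalkMap (genericPoint Y'))), G₁ = G₂ →
        locRing { Z := Y', G := G₁, gen := p₁, bir := q₁ } y = locRing { Z := Y', G := G₂, gen := p₂, bir := q₂ } y := by
      rintro G₁ G₂ p₁ p₂ q₁ q₂ rfl; rfl
    exact key _ _ _ _ _ _ (Category.assoc b S.g M₀.G).symm
  have hsing : ∀ y : Y', ¬ IsRegularLocalRing (Y'.presheaf.stalk y) → b y ∈ s := by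
    intro y hy
    by_contra hys
    haveI := hoff y hys
    have hr : IsRegularLocalRing (S.Y.presheaf.stalk (b y)) := not_not.1 fun h => hys (S.finite.mem_toFinset.2 h)
    haveI : IsRegularLocalRing (S.M.Z.presheaf.stalk (b y)) := hr
    exact hy (IsRegularLocalRing.of_ringEquiv (asIso (b.stalkMap y)).commRingCatIsoToRingEquiv)
  have hle : ∀ y : Y', locRing S.M (b y) ≤ locRing M' y := fun y =>
    (RatUp.locRing_comp_le b hgen hbir y).trans_eq (hM' y)
  have hstep : ∀ y : Y', b y ∈ s → Step (Subring.inclusion (hle y)) := by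
    intro y hy
    obtain ⟨a, ha, ha0, hdiv, hfr⟩ := hchart y hy
    refine step_of_chart (hle y) (fun t ht => ?_) ha ha0 (fun t ht => hM' y ▸ hdiv t ht) (fun c hc => ?_)
    · have h1 := dom_inclusion hgen hbir y t ht
      have key : ∀ (T T' : Subring (Spec R).functionField) [IsLocalRing T] [IsLocalRing T'], T = T' →
          ∀ (c : (Spec R).functionField) (h : c ∈ T) (h' : c ∈ T'), (⟨c, h⟩ : T) ∈ maximalIdeal T →
            (⟨c, h'⟩ : T') ∈ maximalIdeal T' := by
        intro T T' _ _ e c h h' hm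
        subst e
        exact hm
      exact key _ _ (hM' y) _ _ _ h1
    · obtain ⟨p, hp, q, hq, hq0, hcq, hqi⟩ := hfr c ((hM' y).symm ▸ hc)
      exact ⟨p, hp, q, hq, hq0, hcq, hM' y ▸ hqi⟩
  have hthree : ∀ y : Y', b y ∈ s → ∃ a c d : locRing M' y, maximalIdeal (locRing M' y) = Ideal.span {a, c, d} := by
    intro y hy
    obtain ⟨a, c, d, h⟩ := S.three (b y) (S.finite.mem_toFinset.1 hy)
    exact (hstep y hy).exists_three h
  have hquad : ∀ y : Y', ¬ IsRegularLocalRing (Y'.presheaf.stalk y) → QuadPt (locRing M' y) := fun y hy =>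
    quadPt_locRing hN M' hY' y (hrat Y' (b ≫ S.g) hbir' hY' y) hy (hthree y (hsing y hy))
  have hfin : {y : Y' | ¬ IsRegularLocalRing (Y'.presheaf.stalk y)}.Finite := by
    refine (s.finite_toSet.biUnion' (t := fun z _ => {y : Y' | ¬ IsRegularLocalRing (Y'.presheaf.stalk y) ∧ b y = z})
      fun z hz => ?_).subset (fun y hy => Set.mem_biUnion (hsing y hy) ⟨hy, rfl⟩)
    refine (finite_of_step M' hY' (S.quad hN hrat z (S.finite.mem_toFinset.1 hz))
      {y : Y' | ¬ IsRegularLocalRing (Y'.presheaf.stalk y) ∧ b y = z} ?_)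
    rintro y ⟨hy, rfl⟩
    exact ⟨hle y, hstep y (hsing y hy), hquad y hy⟩
  refine ⟨{ Y := Y', g := b ≫ S.g, hgen := hgen', hbir := hbir', proper := inferInstance, nice := hY',
            finite := hfin, three := fun y hy => hthree y (hsing y hy),
            cpl := fun y hy => hcpl y (hsing y hy) (dim_of_singular hY' y hy).1
              (S.cpl (b y) (S.finite.mem_toFinset.1 (hsing y hy))) }, fun y => b y,
    fun y hy => ⟨S.finite.mem_toFinset.1 (hsing y hy), hle y, hstep y (hsing y hy)⟩⟩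

/-- Some stage is regular. -/
theorem exists_regular_stage (S₀ : Stage M₀) :
    ∃ S : Stage M₀, ∀ y : S.Y, IsRegularLocalRing (S.Y.presheaf.stalk y) := by
  classical
  by_contra! hne
  choose next π hπ using Stage.exists_next hN hrat (M₀ := M₀)
  let S : ℕ → Stage M₀ := fun n => Nat.rec S₀ (fun _ T => next T) n
  let α : ℕ → Type u := fun n => {y : (S n).Y // ¬ IsRegularLocalRing ((S n).Y.presheaf.stalk y)}
  haveI : ∀ n, Finite (α n) := fun n => Set.finite_coe_iff.2 (S n).finite
  haveI : ∀ n, Nonempty (α n) := fun n => (hne (S n)).elim fun y hy => ⟨⟨y, hy⟩⟩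
  obtain ⟨ω, hω⟩ := NormSeq.exists_chain (α := α) fun n w => ⟨π (S n) w.1, (hπ (S n) w.1 w.2).1⟩
  let w : ∀ n, (S n).Y := fun n => (ω n).1
  have hw : ∀ n, π (S n) (w (n + 1)) = w n := fun n => congrArg Subtype.val (hω n)
  let Rn : ℕ → Subring (Spec R).functionField := fun n => locRing (S n).M (w n)
  haveI : ∀ n, IsLocalRing (Rn n) := fun n => inferInstanceAs (IsLocalRing (locRing (S n).M (w n)))
  have hst : ∀ n, ∃ hle : Rn n ≤ Rn (n + 1), Step (Subring.inclusion hle) := by
    intro n
    have key : ∀ z, z = π (S n) (w (n + 1)) →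
        ∃ hle : locRing (S n).M z ≤ Rn (n + 1), Step (Subring.inclusion hle) := by
      rintro z rfl
      exact (hπ (S n) (w (n + 1)) (ω (n + 1)).2).2
    exact key (w n) (hw n).symm
  have hmono : Monotone Rn := monotone_nat_of_le_succ fun n => (hst n).choose
  refine Chain.false (hmono := hmono) ⟨fun n => (hst n).choose_spec, fun n => (S n).quad hN hrat _ (ω n).2,
    fun n => isIntegrallyClosed_locRing _ (S n).nice _⟩ fun n => ?_
  haveI := (S n).nice.noeth
  obtain ⟨hdom, hic⟩ := (S n).cpl (w n) (ω n).2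
  let A := (S n).Y.presheaf.stalk (w n)
  let e : A ≃+* Rn n := stalkEquiv (S n).M (w n)
  haveI := hdom
  haveI := hic
  haveI : IsLocallyNoetherian (S n).Y := (S n).nice.noeth.toIsLocallyNoetherian
  haveI : IsNoetherianRing A := inferInstanceAs (IsNoetherianRing ((S n).Y.presheaf.stalk (w n)))
  haveI : IsLocalRing (EGA4.Cpl A) := FlatLoc6.isLocalRing_cpl A
  haveI : IsLocalRing (Curv2.cpl A) := FlatLoc6.isLocalRing_cpl A
  haveI : IsAdicComplete (maximalIdeal (Curv2.cpl A)) (Curv2.cpl A) := CplFib6.isAdicComplete_cpl A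
  haveI := FlatLoc6.isNoetherianRing_cpl A
  haveI : Module.FaithfullyFlat A (Curv2.cpl A) := FlatLoc6.faithfullyFlat_cpl A
  have hm : (maximalIdeal (Rn n)).map (e.symm : Rn n →+* A) = maximalIdeal A :=
    IsLocalRing.map_ringEquiv_maximalIdeal e.symm
  refine ⟨Curv2.cpl A, inferInstance, inferInstance, inferInstance, inferInstance, inferInstance, inferInstance,
    (algebraMap A (Curv2.cpl A)).comp (e.symm : Rn n →+* A),
    (RatCompl.dim_cpl A).trans (dim_of_singular (S n).nice _ (ω n).2).2, ⟨?_, ?_, ?_⟩⟩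
  · show Ideal.map ((algebraMap A (Curv2.cpl A)).comp (e.symm : Rn n →+* A)) (maximalIdeal (Rn n)) = _
    rw [← Ideal.map_map, hm, RatCompl.cpl_maxMap]
  · intro k c hc
    change algebraMap A (Curv2.cpl A) (e.symm c) ∈ _ at hc
    rw [← RatCompl.cpl_maxMap, ← Ideal.map_pow, ← Ideal.mem_comap, Ideal.comap_map_eq_self_of_faithfullyFlat] at hc
    have h1 := Ideal.mem_map_of_mem (e : A →+* Rn n) hc
    rw [Ideal.map_pow, show Ideal.map (e : A →+* Rn n) (maximalIdeal A) = maximalIdeal (Rn n) from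
      IsLocalRing.map_ringEquiv_maximalIdeal e] at h1
    change e (e.symm c) ∈ _ at h1
    rwa [e.apply_symm_apply] at h1
  · intro k c
    obtain ⟨a, ha⟩ := Submodule.Quotient.mk_surjective _ (AdicCompletion.eval (maximalIdeal A) A k c)
    refine ⟨e a, ?_⟩
    show c - algebraMap A (Curv2.cpl A) (e.symm (e a)) ∈ _
    rw [e.symm_apply_apply]
    have h0 : AdicCompletion.eval (maximalIdeal A) A k (c - algebraMap A (Curv2.cpl A) a) = 0 := by
      rw [map_sub, sub_eq_zero, ← ha]
      rfl
    rw [← LinearMap.mem_ker, ← AdicCompletion.pow_smul_top_eq_ker_eval (IsNoetherian.noetherian _),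
      Ideal.smul_top_eq_map, Ideal.map_pow, RatCompl.cpl_maxMap] at h0
    exact h0

end Groth.Agent.DoublePt
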