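import Groth.Agent.DoublePt.Chart
import Groth.Agent.S1601

/-!
# Singular centres over a double point whose quadratic relation is no square
-/

set_option autoImplicit false
set_option linter.style.haveILetI false
set_option linter.unusedSectionVars false
set_option maxHeartbeats 800000

universe u

open IsLocalRing MvPolynomial

namespace Groth.Agent.DoublePt

theorem quad_mem {R : Type u} [CommRing R] [IsLocalRing R] {x y z : R}
    (h : maximalIdeal R = Ideal.span {x, y, z}) {c : Fin 6 → R} (hc : ∀ j, c j ∈ maximalIdeal R) :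
    quad c x y z ∈ maximalIdeal R ^ 3 := by
  have key : ∀ a p q : R, a ∈ maximalIdeal R → p ∈ maximalIdeal R → q ∈ maximalIdeal R →
      a * (p * q) ∈ maximalIdeal R ^ 3 := fun a p q ha hp hq => by
    rw [show (3 : ℕ) = 1 + (1 + 1) from rfl, pow_add, pow_add, pow_one]
    exact Ideal.mul_mem_mul ha (Ideal.mul_mem_mul hp hq)
  unfold quad
  simp only [pow_two]
  exact add_mem (add_mem (add_mem (add_mem (add_mem (key _ _ _ (hc 0) (mem₁ h) (mem₁ h))
    (key _ _ _ (hc 1) (mem₁ h) (mem₂ h))) (key _ _ _ (hc 2) (mem₁ h) (mem₃ h)))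
    (key _ _ _ (hc 3) (mem₂ h) (mem₂ h))) (key _ _ _ (hc 4) (mem₂ h) (mem₃ h)))
    (key _ _ _ (hc 5) (mem₃ h) (mem₃ h))

variable {A B : Type u} [CommRing A] [IsLocalRing A] [CommRing B] [IsLocalRing B] {i : A →+* B}

/-- The relation on a chart. -/
noncomputable def dehom {R : Type u} [CommRing R] (c : Fin 6 → R) : MvPolynomial (Fin 2) R :=
  C (c 0) + C (c 1) * X 0 + C (c 2) * X 1 + C (c 3) * X 0 ^ 2 + C (c 4) * X 0 * X 1 + C (c 5) * X 1 ^ 2

theorem red_dehom (c : Fin 6 → A) : red A (dehom c) = dehom fun j => residue A (c j) := by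
  simp [red, dehom]

theorem dehom_eq_zero {κ : Type u} [CommRing κ] {c : Fin 6 → κ} (h : dehom c = 0) : ∀ j, c j = 0 := by
  have h1 := congrArg (aeval ![(Polynomial.X : Polynomial κ), Polynomial.X ^ 3]) h
  simp only [dehom, map_add, map_mul, map_pow, aeval_C, aeval_X, map_zero, Matrix.cons_val_zero,
    Matrix.cons_val_one, Polynomial.algebraMap_eq, mul_assoc, ← pow_mul, ← pow_succ'] at h1
  intro j
  fin_cases j
  · simpa [Polynomial.coeff_X_pow, Polynomial.coeff_X] using congrArg (fun p => Polynomial.coeff p 0) h1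
  · simpa [Polynomial.coeff_X_pow, Polynomial.coeff_X] using congrArg (fun p => Polynomial.coeff p 1) h1
  · simpa [Polynomial.coeff_X_pow, Polynomial.coeff_X] using congrArg (fun p => Polynomial.coeff p 3) h1
  · simpa [Polynomial.coeff_X_pow, Polynomial.coeff_X] using congrArg (fun p => Polynomial.coeff p 2) h1
  · simpa [Polynomial.coeff_X_pow, Polynomial.coeff_X] using congrArg (fun p => Polynomial.coeff p 4) h1
  · simpa [Polynomial.coeff_X_pow, Polynomial.coeff_X] using congrArg (fun p => Polynomial.coeff p 6) h1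

theorem Step.mem_of_map_mem {t : A} (h : i t ∈ maximalIdeal B) : t ∈ maximalIdeal A := by
  by_contra hu
  exact (mem_maximalIdeal _).1 h ((notMem_maximalIdeal.1 hu).map i)

variable [IsDomain B] {x y z : A} {v w : B}

theorem Frame.ne' (hF : Frame i x y z v w) (hS : Step i) : i x ≠ 0 := fun e =>
  hF.ne (hS.inj (e.trans (map_zero i).symm))

theorem Frame.dvd_dehom (hF : Frame i x y z v w) (hS : Step i) {c : Fin 6 → A}
    (hc : quad c x y z ∈ maximalIdeal A ^ 3) : i x ∣ ev i v w (dehom c) := by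
  have h1 : i (quad c x y z) ∈ Ideal.span {i x} ^ 3 := by
    refine Ideal.pow_right_mono ?_ 3 (Ideal.map_pow i (maximalIdeal A) 3 ▸ Ideal.mem_map_of_mem i hc)
    exact Ideal.map_le_iff_le_comap.2 fun t ht => Ideal.mem_span_singleton.2 (hF.dvd ht)
  rw [Ideal.span_singleton_pow, Ideal.mem_span_singleton] at h1
  have h2 : i (quad c x y z) = i x ^ 2 * ev i v w (dehom c) := by
    simp only [quad, dehom, map_add, map_mul, map_pow, ev_C, ev_X0, ev_X1, ← hF.hv, ← hF.hw]
    ring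
  rw [h2, pow_succ] at h1
  exact (mul_dvd_mul_iff_left (pow_ne_zero 2 (hF.ne' hS))).1 h1

/-- A singular centre over a point in the state `IsN` is rational. -/
theorem Frame.exists_rational (hF : Frame i x y z v w) (hS : Step i) (hA : QuadPt A) (hB : QuadPt B)
    (hN : IsN A) : ∃ a b : A, v - i a ∈ maximalIdeal B ∧ w - i b ∈ maximalIdeal B := by
  obtain ⟨c, ⟨j₀, hj₀⟩, hc⟩ := hA.rel x y z hF.gen
  obtain ⟨hmax, hsq⟩ := hF.centre hS hB (dehom c) (hF.dvd_dehom hS hc)
  let κ := ResidueField A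
  by_cases hI : Module.Finite κ (MvPolynomial (Fin 2) κ ⧸ ctr i v w) ∧
      Module.finrank κ (MvPolynomial (Fin 2) κ ⧸ ctr i v w) ≤ 1
  · haveI := hI.1
    haveI : Module.Free κ (MvPolynomial (Fin 2) κ ⧸ ctr i v w) :=
      @Module.Free.of_divisionRing κ (MvPolynomial (Fin 2) κ ⧸ ctr i v w) _ _ _
    obtain ⟨e, he⟩ := finrank_le_one_iff.1 hI.2
    haveI : Nontrivial (MvPolynomial (Fin 2) κ ⧸ ctr i v w) := Ideal.Quotient.nontrivial_iff.2 hmax.ne_top
    obtain ⟨c₁, hc₁⟩ := he 1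
    have hc₁0 : c₁ ≠ 0 := fun h0 => one_ne_zero (α := MvPolynomial (Fin 2) κ ⧸ ctr i v w) (by rw [← hc₁, h0, zero_smul])
    have hlift : ∀ k : Fin 2, ∃ a : A, ev i v w (X k) - i a ∈ maximalIdeal B := by
      intro k
      obtain ⟨d, hd⟩ := he (Ideal.Quotient.mk _ (X k))
      obtain ⟨a, ha⟩ := residue_surjective (d * c₁⁻¹)
      refine ⟨a, ?_⟩
      rw [← ev_C i v w a, ← map_sub, ← hF.mem_ctr hS, ← Ideal.Quotient.eq_zero_iff_mem]
      rw [show red A (X k - C a) = X k - C (residue A a) by simp [red], map_sub, ← hd, ha, sub_eq_zero]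
      rw [show Ideal.Quotient.mk (ctr i v w) (C (d * c₁⁻¹)) = (d * c₁⁻¹) • (1 : MvPolynomial (Fin 2) κ ⧸ ctr i v w) by
        rw [← Algebra.algebraMap_eq_smul_one]; rfl, ← hc₁, smul_smul, mul_assoc, inv_mul_cancel₀ hc₁0, mul_one]
    obtain ⟨a, ha⟩ := hlift 0
    obtain ⟨b, hb⟩ := hlift 1
    exact ⟨a, b, by simpa using ha, by simpa using hb⟩
  · exfalso
    rw [red_dehom] at hsq
    have hne : (residue A (c 0), residue A (c 1), residue A (c 2), residue A (c 3), residue A (c 4), residue A (c 5)) ≠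
        (0, 0, 0, 0, 0, 0) := by
      intro h0
      simp only [Prod.mk.injEq, residue_eq_zero_iff] at h0
      obtain ⟨h00, h01, h02, h03, h04, h05⟩ := h0
      fin_cases j₀ <;> exact hj₀ ‹_›
    obtain ⟨j, g, h, k, hjq⟩ := S1601.result κ (ctr i v w) hI _ _ _ _ _ _ hne hsq
    obtain ⟨j, rfl⟩ := residue_surjective j
    obtain ⟨g, rfl⟩ := residue_surjective g
    obtain ⟨h, rfl⟩ := residue_surjective h
    obtain ⟨k, rfl⟩ := residue_surjective k
    let c' : Fin 6 → A := ![g ^ 2, 2 * g * h, 2 * g * k, h ^ 2, 2 * h * k, k ^ 2]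
    have hd : ∀ l, c l - j * c' l ∈ maximalIdeal A := by
      intro l
      rw [← residue_eq_zero_iff, map_sub, map_mul]
      refine dehom_eq_zero (c := fun l => residue A (c l) - residue A j * residue A (c' l)) ?_ l
      rw [show (0 : MvPolynomial (Fin 2) κ) = dehom (fun l => residue A (c l)) -
        C (residue A j) * (C (residue A g) + C (residue A h) * X 0 + C (residue A k) * X 1) ^ 2 from
          (sub_eq_zero.2 hjq).symm]
      simp only [dehom, c', C_sub, C_mul, map_mul, map_pow, map_ofNat, Fin.isValue, Matrix.cons_val]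
      ring
    have hju : IsUnit j := by
      by_contra hj
      refine hj₀ ?_
      have h1 := add_mem (hd j₀) (Ideal.mul_mem_right (c' j₀) _ ((mem_maximalIdeal _).2 hj))
      rwa [sub_add_cancel] at h1
    have hL : (g * x + h * y + k * z) ^ 2 ∈ maximalIdeal A ^ 3 := by
      have h1 := sub_mem hc (quad_mem hF.gen (c := fun l => c l - j * c' l) hd)
      rw [show quad c x y z - quad (fun l => c l - j * c' l) x y z = j * quad c' x y z by
        simp only [quad]; ring, quad_sq] at h1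
      exact (Ideal.unit_mul_mem_iff_mem _ hju).1 h1
    obtain ⟨hg, hh, hk⟩ := hA.coef hF.gen (hN _ (add_mem (add_mem (Ideal.mul_mem_left _ _ (mem₁ hF.gen))
      (Ideal.mul_mem_left _ _ (mem₂ hF.gen))) (Ideal.mul_mem_left _ _ (mem₃ hF.gen))) hL)
    refine hj₀ ?_
    have h1 : c' j₀ ∈ maximalIdeal A := by
      fin_cases j₀ <;> simp only [c', Fin.isValue, Fin.zero_eta, Fin.mk_one, Fin.reduceFinMk, Matrix.cons_val, pow_two] <;>
        first
          | exact Ideal.mul_mem_left _ _ hg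
          | exact Ideal.mul_mem_left _ _ hh
          | exact Ideal.mul_mem_left _ _ hk
    have h2 := add_mem (hd j₀) (Ideal.mul_mem_left _ j h1)
    rwa [sub_add_cancel] at h2

theorem Frame.mem_low (hF : Frame i x y z v w) (hS : Step i) (hB : QuadPt B)
    (hm : maximalIdeal B = Ideal.span {i x, v, w}) {c : Fin 6 → A} (hc : quad c x y z ∈ maximalIdeal A ^ 3)
    (hne : ∃ j, c j ∉ maximalIdeal A) :
    c 0 ∈ maximalIdeal A ∧ c 1 ∈ maximalIdeal A ∧ c 2 ∈ maximalIdeal A ∧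
      ¬ (c 3 ∈ maximalIdeal A ∧ c 4 ∈ maximalIdeal A ∧ c 5 ∈ maximalIdeal A) ∧
      ∃ α β δ : B, quad ![α, β, δ, i (c 3), i (c 4), i (c 5)] (i x) v w = 0 := by
  obtain ⟨γ, hγ⟩ := hF.dvd_dehom hS hc
  simp only [dehom, map_add, map_mul, map_pow, ev_C, ev_X0, ev_X1] at hγ
  have h0 : c 0 ∈ maximalIdeal A := by
    refine Step.mem_of_map_mem (i := i) ?_
    rw [show i (c 0) = i x * γ - (i (c 1) + i (c 3) * v + i (c 4) * w) * v - (i (c 2) + i (c 5) * w) * w by
      linear_combination hγ]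
    exact sub_mem (sub_mem (Ideal.mul_mem_right _ _ (mem₁ hm)) (Ideal.mul_mem_left _ _ (mem₂ hm)))
      (Ideal.mul_mem_left _ _ (mem₃ hm))
  obtain ⟨d₀, hd₀⟩ := hF.dvd h0
  have h12 := hB.coef hm (α := d₀ - γ) (β := i (c 1)) (γ := i (c 2)) (by
    rw [show (d₀ - γ) * i x + i (c 1) * v + i (c 2) * w = -(i (c 3) * (v * v) + i (c 4) * (v * w) + i (c 5) * (w * w)) by
      linear_combination hγ - hd₀, pow_two]
    exact neg_mem (add_mem (add_mem (Ideal.mul_mem_left _ _ (Ideal.mul_mem_mul (mem₂ hm) (mem₂ hm)))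
      (Ideal.mul_mem_left _ _ (Ideal.mul_mem_mul (mem₂ hm) (mem₃ hm))))
      (Ideal.mul_mem_left _ _ (Ideal.mul_mem_mul (mem₃ hm) (mem₃ hm)))))
  have h1 := Step.mem_of_map_mem (i := i) h12.2.1
  have h2 := Step.mem_of_map_mem (i := i) h12.2.2
  obtain ⟨d₁, hd₁⟩ := hF.dvd h1
  obtain ⟨d₂, hd₂⟩ := hF.dvd h2
  obtain ⟨α', β', δ', hcomb⟩ := exists_comb hm h12.1
  refine ⟨h0, h1, h2, fun h345 => ?_, α', β' + d₁, δ' + d₂, ?_⟩
  · obtain ⟨j, hj⟩ := hne
    obtain ⟨h3, h4, h5⟩ := h345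
    fin_cases j <;> exact hj ‹_›
  · simp only [quad, Fin.isValue, Matrix.cons_val]
    linear_combination hγ - hd₀ - v * hd₁ - w * hd₂ - i x * hcomb

theorem map_res {a : A} {β : B} (h : β - i a ∈ maximalIdeal B) (ha : a ∈ maximalIdeal A) (hS : Step i) :
    β ∈ maximalIdeal B := by
  have h1 := add_mem h (hS.dom _ ha)
  rwa [sub_add_cancel] at h1

/-- The next ring of a singular centre over a point in the state `IsN`. -/
theorem Frame.isN' (hF : Frame i x y z v w) (hS : Step i) (hA : QuadPt A) (hB : QuadPt B) (hN : IsN A) :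
    IsN' (i x) ∧ ∀ r : B, ∃ r₀ : A, r - i r₀ ∈ maximalIdeal B := by
  obtain ⟨a, b, ha, hb⟩ := hF.exists_rational hS hA hB hN
  obtain ⟨hm, hsurj⟩ := hF.of_rational hS ha hb
  have hF' := hF.shift a b
  refine ⟨?_, hsurj⟩
  obtain ⟨c, hne, hc⟩ := hA.rel x (y - a * x) (z - b * x) hF'.gen
  obtain ⟨h0, h1, h2, h345, α', β', δ', hrel⟩ := hF'.mem_low hS hB hm hc hne
  set v' := v - i a
  set w' := w - i b
  have huniq : ∀ e : Fin 6 → B, quad e (i x) v' w' ∈ maximalIdeal B ^ 3 →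
      ∃ r : B, ∀ j, e j - r * (![α', β', δ', i (c 3), i (c 4), i (c 5)] : Fin 6 → B) j ∈ maximalIdeal B := fun e he =>
    hB.uniq _ _ _ hm e _ he (hrel ▸ zero_mem _) (by
      by_contra hall
      push Not at hall
      exact h345 ⟨Step.mem_of_map_mem (hall 3), Step.mem_of_map_mem (hall 4), Step.mem_of_map_mem (hall 5)⟩)
  refine ⟨⟨v', w', hm⟩, fun t ht hts => ?_, fun l hl hls => ?_⟩
  · obtain ⟨α, β, δ, rfl⟩ := exists_comb hm ht
    obtain ⟨p, hp, q, hq, hpq⟩ := Submodule.mem_sup.1 hts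
    obtain ⟨l, hl, rfl⟩ := Ideal.mem_span_singleton_mul.1 hp
    obtain ⟨α₁, β₁, δ₁, rfl⟩ := exists_comb hm hl
    obtain ⟨r, hr⟩ := huniq ![α ^ 2 - α₁, 2 * α * β - β₁, 2 * α * δ - δ₁, β ^ 2, 2 * β * δ, δ ^ 2] (by
      convert hq using 1
      simp only [quad, Fin.isValue, Matrix.cons_val]
      linear_combination -hpq)
    obtain ⟨β₀, hβ₀⟩ := hsurj β
    obtain ⟨δ₀, hδ₀⟩ := hsurj δ
    obtain ⟨r₀, hr₀⟩ := hsurj r
    let π := residue B
    have eβ : π β = π (i β₀) := Ideal.Quotient.eq.2 hβ₀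
    have eδ : π δ = π (i δ₀) := Ideal.Quotient.eq.2 hδ₀
    have er : π r = π (i r₀) := Ideal.Quotient.eq.2 hr₀
    have hk : ∀ (e : B) (d k : A), e - r * i k ∈ maximalIdeal B → π e = π (i d) → d - r₀ * k ∈ maximalIdeal A := by
      intro e d k he hed
      refine Step.mem_of_map_mem (i := i) (Ideal.Quotient.eq_zero_iff_mem.1 ?_)
      show π _ = 0
      rw [map_sub, map_sub, map_mul, map_mul, ← hed, ← er, ← map_mul, ← map_sub]
      exact Ideal.Quotient.eq_zero_iff_mem.2 he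
    have e3 := hk (β ^ 2) (β₀ ^ 2) (c 3) (hr 3) (by simp only [map_pow, eβ])
    have e4 := hk (2 * β * δ) (2 * β₀ * δ₀) (c 4) (hr 4) (by simp only [map_mul, map_ofNat, eβ, eδ])
    have e5 := hk (δ ^ 2) (δ₀ ^ 2) (c 5) (hr 5) (by simp only [map_pow, eδ])
    have hZ : (β₀ * (y - a * x) + δ₀ * (z - b * x)) ^ 2 ∈ maximalIdeal A ^ 3 := by
      have h6 := quad_mem hF'.gen (c := ![-(r₀ * c 0), -(r₀ * c 1), -(r₀ * c 2), β₀ ^ 2 - r₀ * c 3,
        2 * β₀ * δ₀ - r₀ * c 4, δ₀ ^ 2 - r₀ * c 5]) (by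
          intro j
          fin_cases j
          · exact neg_mem (Ideal.mul_mem_left _ _ h0)
          · exact neg_mem (Ideal.mul_mem_left _ _ h1)
          · exact neg_mem (Ideal.mul_mem_left _ _ h2)
          · exact e3
          · exact e4
          · exact e5)
      convert add_mem h6 (Ideal.mul_mem_left _ r₀ hc) using 1
      simp only [quad, Fin.isValue, Matrix.cons_val]
      ring
    obtain ⟨-, hb0, hd0⟩ := hA.coef hF'.gen (α := 0) (β := β₀) (γ := δ₀) (by
      rw [zero_mul, zero_add]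
      exact hN _ (add_mem (Ideal.mul_mem_left _ _ (mem₂ hF'.gen)) (Ideal.mul_mem_left _ _ (mem₃ hF'.gen))) hZ)
    refine add_mem (add_mem (Submodule.mem_sup_left (Ideal.mul_mem_left _ _ (Ideal.mem_span_singleton_self _))) ?_) ?_
    · refine Submodule.mem_sup_right ?_
      rw [pow_two]
      exact Ideal.mul_mem_mul (map_res hβ₀ hb0 hS) (mem₂ hm)
    · refine Submodule.mem_sup_right ?_
      rw [pow_two]
      exact Ideal.mul_mem_mul (map_res hδ₀ hd0 hS) (mem₃ hm)
  · obtain ⟨α₁, β₁, δ₁, rfl⟩ := exists_comb hm hl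
    obtain ⟨r, hr⟩ := huniq ![α₁, β₁, δ₁, 0, 0, 0] (by
      convert hls using 1
      simp only [quad, Fin.isValue, Matrix.cons_val]
      ring)
    have hrm : r ∈ maximalIdeal B := by
      by_contra hu
      have key : ∀ k : A, (0 : B) - r * i k ∈ maximalIdeal B → k ∈ maximalIdeal A := fun k hk => by
        rw [zero_sub, neg_mem_iff] at hk
        exact Step.mem_of_map_mem ((Ideal.unit_mul_mem_iff_mem _ (notMem_maximalIdeal.1 hu)).1 hk)
      exact h345 ⟨key _ (hr 3), key _ (hr 4), key _ (hr 5)⟩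
    have key : ∀ e k : B, e - r * k ∈ maximalIdeal B → e ∈ maximalIdeal B := fun e k he => by
      have h1 := add_mem he (Ideal.mul_mem_right k _ hrm)
      rwa [sub_add_cancel] at h1
    rw [pow_two]
    exact add_mem (add_mem (Ideal.mul_mem_mul (key _ _ (hr 0)) (mem₁ hm))
      (Ideal.mul_mem_mul (key _ _ (hr 1)) (mem₂ hm))) (Ideal.mul_mem_mul (key _ _ (hr 2)) (mem₃ hm))

theorem IsN'.isN {s : A} (h : IsN' s) (hA : QuadPt A) : IsN A := by
  obtain ⟨⟨y, z, hm⟩, h1, h2⟩ := h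
  intro t ht ht2
  obtain ⟨p, hp, q, hq, rfl⟩ := Submodule.mem_sup.1 (h1 t ht (Submodule.mem_sup_right ht2))
  obtain ⟨d, rfl⟩ := Ideal.mem_span_singleton'.1 hp
  refine add_mem ?_ hq
  by_contra hd
  have hdu : IsUnit d := by
    by_contra hn
    exact hd (pow_two (maximalIdeal A) ▸ Ideal.mul_mem_mul ((mem_maximalIdeal _).2 hn) (mem₁ hm))
  have h3 : s * (d ^ 2 * s) ∈ maximalIdeal A ^ 3 := by
    rw [show s * (d ^ 2 * s) = (d * s + q) ^ 2 - (q * (d * s + q) + d * s * q) by ring,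
      show (3 : ℕ) = 2 + 1 from rfl, pow_add, pow_one] at *
    refine sub_mem ht2 (add_mem (Ideal.mul_mem_mul hq ?_) ?_)
    · exact add_mem (Ideal.mul_mem_left _ _ (mem₁ hm)) (Ideal.pow_le_self two_ne_zero hq)
    · exact Ideal.mul_mem_mul_rev hq (Ideal.mul_mem_left _ _ (mem₁ hm))
  exact hA.not_mem_sq hm ((Ideal.unit_mul_mem_iff_mem _ (hdu.pow 2)).1
    (h2 _ (Ideal.mul_mem_left _ _ (mem₁ hm)) h3))

theorem Step.cases (hS : Step i) {x y z : A} (h : maximalIdeal A = Ideal.span {x, y, z}) :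
    (∀ t ∈ maximalIdeal A, i x ∣ i t) ∨ (∀ t ∈ maximalIdeal A, i y ∣ i t) ∨ ∀ t ∈ maximalIdeal A, i z ∣ i t := by
  obtain ⟨s, hs, hs0, hdiv⟩ := hS.princ
  obtain ⟨α, β, γ, he⟩ := exists_comb h hs
  obtain ⟨p, hp⟩ := hdiv x (mem₁ h)
  obtain ⟨q, hq⟩ := hdiv y (mem₂ h)
  obtain ⟨r, hr⟩ := hdiv z (mem₃ h)
  have h1 : i s * 1 = i s * (i α * p + i β * q + i γ * r) := by
    conv_lhs => rw [mul_one, he, map_add, map_add, map_mul, map_mul, map_mul, hp, hq, hr]
    ring
  have h2 := mul_left_cancel₀ (fun e => hs0 (hS.inj (e.trans (map_zero i).symm))) h1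
  have key : ∀ {t : A} {e : B}, i t = i s * e → IsUnit e → ∀ t' ∈ maximalIdeal A, i t ∣ i t' :=
    fun ht he' t' ht' => ht ▸ (he'.mul_right_dvd).2 (hdiv t' ht')
  by_cases hpu : IsUnit p
  · exact Or.inl (key hp hpu)
  by_cases hqu : IsUnit q
  · exact Or.inr (Or.inl (key hq hqu))
  by_cases hru : IsUnit r
  · exact Or.inr (Or.inr (key hr hru))
  exact absurd ((Ideal.eq_top_iff_one _).2 (h2 ▸ add_mem (add_mem
    (Ideal.mul_mem_left _ _ ((mem_maximalIdeal _).2 hpu)) (Ideal.mul_mem_left _ _ ((mem_maximalIdeal _).2 hqu)))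
    (Ideal.mul_mem_left _ _ ((mem_maximalIdeal _).2 hru)))) (maximalIdeal.isMaximal B).ne_top

theorem Frame.exists_of_dvd (h : maximalIdeal A = Ideal.span {x, y, z}) (hne : x ≠ 0)
    (hd : ∀ t ∈ maximalIdeal A, i x ∣ i t) : ∃ v w : B, Frame i x y z v w := by
  obtain ⟨v, hv⟩ := hd y (mem₂ h)
  obtain ⟨w, hw⟩ := hd z (mem₃ h)
  exact ⟨v, w, h, hne, hv.symm, hw.symm⟩

/-- The parameter of the state `IsN'` generates on every singular centre. -/
theorem Step.free (hS : Step i) (hA : QuadPt A) (hB : QuadPt B) {s : A} (hN : IsN' s) :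
    ∀ t ∈ maximalIdeal A, i s ∣ i t := by
  obtain ⟨⟨y, z, hm⟩, h1, h2⟩ := hN
  have key : ∀ {y z : A}, maximalIdeal A = Ideal.span {s, y, z} → (∀ t ∈ maximalIdeal A, i y ∣ i t) →
      ∀ t ∈ maximalIdeal A, i s ∣ i t := by
    intro y z hm hd
    have hgen := hm.trans (span_swap s y z)
    obtain ⟨v, w, hF⟩ := Frame.exists_of_dvd hgen (hA.ne₁ hgen) hd
    by_cases hu : IsUnit v
    · exact fun t ht => hF.hv ▸ (hu.mul_right_dvd).2 (hd t ht)
    exfalso
    obtain ⟨a, b, -, hb⟩ := hF.exists_rational hS hA hB (IsN'.isN ⟨⟨_, _, hm⟩, h1, h2⟩ hA)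
    have hv0 : v - i 0 ∈ maximalIdeal B := by simpa using (mem_maximalIdeal v).2 hu
    obtain ⟨hmB, -⟩ := hF.of_rational hS hv0 hb
    have hF' := hF.shift 0 b
    obtain ⟨c, hne, hc⟩ := hA.rel _ _ _ hF'.gen
    obtain ⟨c0, c1, c2, h345, -⟩ := hF'.mem_low hS hB hmB hc hne
    have hlow := quad_mem hF'.gen (c := ![c 0, c 1, c 2, 0, 0, 0]) (by
      intro j; fin_cases j <;> first | assumption | exact zero_mem _)
    simp only [zero_mul, sub_zero] at hF' hc hlow
    set z' := z - b * y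
    have htop : c 3 * s ^ 2 + c 4 * (s * z') + c 5 * z' ^ 2 ∈ maximalIdeal A ^ 3 := by
      convert sub_mem hc hlow using 1
      simp only [quad, Fin.isValue, Matrix.cons_val]
      ring
    by_cases hc5 : IsUnit (c 5)
    · obtain ⟨p, hp, q, hq, hpq⟩ := Submodule.mem_sup.1 (h1 z' (mem₃ hF'.gen) ((Ideal.unit_mul_mem_iff_mem _ hc5).1 (by
        rw [show c 5 * z' ^ 2 = -(s * (c 3 * s + c 4 * z')) + (c 3 * s ^ 2 + c 4 * (s * z') + c 5 * z' ^ 2) by ring]
        exact Submodule.add_mem_sup (neg_mem (Ideal.mul_mem_mul (Ideal.mem_span_singleton_self s)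
          (add_mem (Ideal.mul_mem_left _ _ (mem₂ hF'.gen)) (Ideal.mul_mem_left _ _ (mem₃ hF'.gen))))) htop)))
      obtain ⟨d, rfl⟩ := Ideal.mem_span_singleton'.1 hp
      exact (maximalIdeal.isMaximal A).ne_top ((Ideal.eq_top_iff_one _).2
        (hA.coef hF'.gen (α := 0) (β := -d) (γ := 1) (by
          rwa [show 0 * y + -d * s + 1 * z' = q by rw [← hpq]; ring])).2.2)
    · have h5 := (mem_maximalIdeal _).2 hc5
      have hsl : s * (c 3 * s + c 4 * z') ∈ maximalIdeal A ^ 3 := by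
        have h6 := quad_mem hF'.gen (c := ![0, 0, 0, 0, 0, c 5]) (by
          intro j; fin_cases j <;> first | exact h5 | exact zero_mem _)
        convert sub_mem htop h6 using 1
        simp only [quad, Fin.isValue, Matrix.cons_val]
        ring
      obtain ⟨-, h3, h4⟩ := hA.coef hF'.gen (α := 0) (β := c 3) (γ := c 4) (by
        rw [zero_mul, zero_add]
        exact h2 _ (add_mem (Ideal.mul_mem_left _ _ (mem₂ hF'.gen)) (Ideal.mul_mem_left _ _ (mem₃ hF'.gen))) hsl)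
      exact h345 ⟨h3, h4, h5⟩
  rcases hS.cases hm with h | h | h
  · exact h
  · exact key hm h
  · exact key (hm.trans (span_swap' s y z)) h

/-- One step in the state `IsN'`. -/
theorem Step.next_N' (hS : Step i) (hA : QuadPt A) (hB : QuadPt B) {s : A} (hN : IsN' s) :
    IsN' (i s) ∧ (∀ t ∈ maximalIdeal A, i s ∣ i t) ∧ ∀ r : B, ∃ r₀ : A, r - i r₀ ∈ maximalIdeal B := by
  have hfree := hS.free hA hB hN
  obtain ⟨y, z, hm⟩ := hN.1
  obtain ⟨v, w, hF⟩ := Frame.exists_of_dvd hm (hA.ne₁ hm) hfree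
  obtain ⟨h1, h2⟩ := hF.isN' hS hA hB (hN.isN hA)
  exact ⟨h1, hfree, h2⟩

/-- One step in the state `IsN`. -/
theorem Step.next_N (hS : Step i) (hA : QuadPt A) (hB : QuadPt B) (hN : IsN A) : ∃ s : B, IsN' s := by
  obtain ⟨x, y, z, hm⟩ := hA.gen
  have key : ∀ {x y z : A}, maximalIdeal A = Ideal.span {x, y, z} → (∀ t ∈ maximalIdeal A, i x ∣ i t) →
      ∃ s : B, IsN' s := fun {x y z} hm hd => by
    obtain ⟨v, w, hF⟩ := Frame.exists_of_dvd hm (hA.ne₁ hm) hd
    exact ⟨_, (hF.isN' hS hA hB hN).1⟩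
  rcases hS.cases hm with h | h | h
  · exact key hm h
  · exact key (hm.trans (span_rot x y z)) h
  · exact key ((hm.trans (span_rot x y z)).trans (span_rot y z x)) h

end Groth.Agent.DoublePt
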